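import Cfsg.Agent.H69.JFourSylow.Cent
import Cfsg.Agent.H49.OrderFourth

/-!
The Sylow 11-subgroup.
-/

set_option autoImplicit false

namespace Cfsg.Agent.H69.JFourSylow

open Subgroup Cfsg.Agent.H43.JFour Cfsg.Agent.H43.JFour.Ctx
open scoped Pointwise

universe u v

variable {G : Type u} [Group G] [Finite G] {A : Type v} [Group A] {M : Subgroup A} {c : Ctx G A}

/-- What is known about an element of order 11 of `C` and the Sylow subgroup through it. -/
structure Eleven (c : Ctx G A) (M : Subgroup A) (x : G) (U : Sylow 11 G) : Prop where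
  env : Env c M
  at' : At c M x
  le_cent : (U : Subgroup G) ≤ centralizer ({x} : Set G)
  cent_norm : centralizer ({x} : Set G) ≤ normalizer ((U : Subgroup G) : Set G)
  card_cent : Nat.card (centralizer ({x} : Set G)) = 24 * 11 ^ 3
  inf_H : (U : Subgroup G) ⊓ c.H = zpowers x
  card_U : Nat.card (U : Subgroup G) = 11 ^ 3
  extra : Cfsg.IsExtraspecial 11 ↥(U : Subgroup G)
  centre : ∀ v ∈ (U : Subgroup G), (∀ w ∈ (U : Subgroup G), Commute v w) → v ∈ zpowers x
  exponent : ∀ u ∈ (U : Subgroup G), u ^ 11 = 1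
  norm_eq : normalizer ((U : Subgroup G) : Set G) = normalizer (zpowers x : Set G)
  card_norm : Nat.card (normalizer ((U : Subgroup G) : Set G)) = 2 ^ 4 * 3 * 5 * 11 ^ 3

theorem card_sylow_eleven (hcard : Nat.card G = jOrder) (S : Sylow 11 G) : Nat.card S = 11 ^ 3 := by
  haveI : Fact (Nat.Prime 11) := ⟨by norm_num⟩
  rw [S.card_eq_multiplicity, hcard, show jOrder = 11 ^ 3 * 65195770883604480 by norm_num [jOrder],
    Nat.factorization_mul (by norm_num) (by norm_num), Nat.factorization_pow]
  simp [(show Nat.Prime 11 by norm_num).factorization, Nat.factorization_eq_zero_of_not_dvd]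

set_option maxRecDepth 100000 in
theorem ten_of_mod : ∀ j ∈ Nat.divisors 10, (jOrder / (j * (24 * 11 ^ 3))) % 11 = 1 → j = 10 := by
  decide +kernel

theorem Env.exists_eleven [IsSimpleGroup G] (e : Env c M)
    (hnab : ∀ U : Sylow 11 G, ¬ ∀ a b : (U : Subgroup G), a * b = b * a) :
    ∃ (x : G) (U : Sylow 11 G), Eleven c M x U := by
  haveI : Fact (Nat.Prime 11) := ⟨by norm_num⟩
  obtain ⟨⟨x, hxC⟩, hg⟩ := exists_prime_orderOf_dvd_card' (G := c.C) 11
    (by rw [e.ok.card_C e.data]; norm_num)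
  have h11 : orderOf x = 11 := by rw [← hg, Subgroup.orderOf_mk]
  have a : At c M x := e.at_ hxC h11
  obtain ⟨O, hOC, hOn, hOodd, hxO, hOH, hcC⟩ := e.exists_core a.mem h11
  have hO : Nat.card O = 11 ^ 3 := e.card_core a.mem h11 hOC hOn hOodd hxO hOH hcC
  rw [hO] at hcC
  obtain ⟨U, hU⟩ := (IsPGroup.of_card hO).exists_le_sylow
  have hUO : O = (U : Subgroup G) :=
    Subgroup.eq_of_le_of_card_ge hU (by rw [hO, card_sylow_eleven e.card U])
  subst hUO
  have hx_mem : x ∈ (U : Subgroup G) := hxO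
  have hnabU := hnab U
  have hextra : Cfsg.IsExtraspecial 11 ↥(U : Subgroup G) := H49.extraspecial_of_card_cube hO hnabU
  have hxcen : (⟨x, hx_mem⟩ : (U : Subgroup G)) ∈ center (U : Subgroup G) :=
    mem_center_iff.2 fun b => Subtype.ext (mem_centralizer_singleton_iff.1 (hOC b.2))
  have hcenU : center (U : Subgroup G) = zpowers (⟨x, hx_mem⟩ : (U : Subgroup G)) :=
    (PGroups.zpowers_eq_of_card_eq hextra.2 hxcen
      fun h => by
        have := congrArg Subtype.val h
        simp only [Subgroup.coe_one] at this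
        rw [this, orderOf_one] at h11; omega).symm
  have hcentre : ∀ v ∈ (U : Subgroup G), (∀ w ∈ (U : Subgroup G), Commute v w) → v ∈ zpowers x := by
    intro v hv hall
    have h : (⟨v, hv⟩ : (U : Subgroup G)) ∈ center (U : Subgroup G) :=
      mem_center_iff.2 fun b => Subtype.ext (hall b b.2).symm.eq
    rw [hcenU] at h
    obtain ⟨i, hi⟩ := mem_zpowers_iff.1 h
    exact ⟨i, by simpa using congrArg Subtype.val hi⟩
  have hxp : ∀ {k : G}, k ∈ zpowers x → k ^ 11 = 1 := by
    rintro _ ⟨i, rfl⟩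
    show (x ^ i) ^ 11 = 1
    rw [← zpow_natCast, ← zpow_mul, mul_comm, zpow_mul, zpow_natCast, a.pow_eleven, one_zpow]
  have hzU : c.z ∈ normalizer ((U : Subgroup G) : Set G) := hOn (mem_inf.1 a.z_mem_Q).2
  have hexp : ∀ u ∈ (U : Subgroup G), u ^ 11 = 1 := by
    intro u hu
    have hzz := e.ok.z_sq
    have hu' : c.z * u * c.z⁻¹ ∈ (U : Subgroup G) := (mem_normalizer_iff.1 hzU u).1 hu
    set v := c.z * u * c.z⁻¹ * u with hv
    have hvU : v ∈ (U : Subgroup G) := mul_mem hu' hu
    set k := u * v * u⁻¹ * v⁻¹ with hk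
    have hkZ : k ∈ zpowers x := by
      have hcomm : (⟨k, mul_mem (mul_mem (mul_mem hu hvU) (inv_mem hu)) (inv_mem hvU)⟩ :
          (U : Subgroup G)) ∈ center (U : Subgroup G) := by
        rw [← hextra.1.2.2]
        exact commutator_mem_commutator (mem_top (⟨u, hu⟩ : (U : Subgroup G))) (mem_top ⟨v, hvU⟩)
      rw [hcenU] at hcomm
      obtain ⟨i, hi⟩ := mem_zpowers_iff.1 hcomm
      exact ⟨i, by simpa using congrArg Subtype.val hi⟩
    have hzk : c.z * k = k * c.z := by
      obtain ⟨i, hi⟩ := hkZ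
      rw [← hi]
      exact (a.z_comm.zpow_right i).eq
    have h1 : c.z * v * c.z⁻¹ = k * v := by
      rw [hv, hk, e.ok.z_inv]
      calc c.z * (c.z * u * c.z * u) * c.z = c.z * c.z * u * (c.z * u * c.z) := by group
        _ = u * (c.z * u * c.z) := by rw [hzz, one_mul]
        _ = _ := by rw [e.ok.z_inv] at hv; rw [hv]; group
    have hkk : k * k = 1 := by
      have h2 : c.z * (k * v) * c.z⁻¹ = v := by
        rw [← h1, e.ok.z_inv]
        calc c.z * (c.z * v * c.z) * c.z = (c.z * c.z) * v * (c.z * c.z) := by group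
          _ = v := by rw [hzz, one_mul, mul_one]
      have h3 : k * (k * v) = v := by
        calc k * (k * v) = k * (c.z * v * c.z⁻¹) := by rw [h1]
          _ = c.z * (k * v) * c.z⁻¹ := by rw [← mul_assoc, ← mul_assoc, ← hzk]; group
          _ = v := h2
      rw [← mul_assoc] at h3
      exact mul_eq_right.1 h3
    have hk1 : k = 1 := by
      have h11' : k ^ 11 = 1 := hxp hkZ
      rw [show 11 = 2 * 5 + 1 from rfl, pow_succ, pow_mul, pow_two, hkk, one_pow, one_mul] at h11'
      exact h11'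
    rw [hk1, one_mul] at h1
    have hvx : v ∈ zpowers x := by
      rw [← hOH]
      exact mem_inf.2 ⟨hvU, c.mem_H.2 (mul_inv_eq_iff_eq_mul.1 h1)⟩
    have hcu : Commute v u⁻¹ := by
      obtain ⟨i, hi⟩ := hvx
      rw [← hi]
      exact ((show Commute u x from mem_centralizer_singleton_iff.1 (hOC hu)).inv_left.zpow_right i).symm
    have h4 : c.z * u ^ 11 * c.z⁻¹ = (u⁻¹) ^ 11 := by
      rw [← conj_pow, show c.z * u * c.z⁻¹ = v * u⁻¹ by rw [hv, mul_inv_cancel_right], hcu.mul_pow,
        hxp hvx, one_mul]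
    have hord : orderOf u ∣ 11 ^ 3 := hO ▸ orderOf_dvd_natCard (U : Subgroup G) hu
    have h5 : u ^ 11 ∈ zpowers x := by
      refine hcentre _ (pow_mem hu 11) fun w hw => ?_
      have hp : (⟨u, hu⟩ : (U : Subgroup G)) ^ 11 ∈ center (U : Subgroup G) :=
        PGroups.isSpecial_pow_mem_center hextra.1 _
      exact (congrArg Subtype.val (mem_center_iff.1 hp ⟨w, hw⟩)).symm
    have h6 : c.z * u ^ 11 * c.z⁻¹ = u ^ 11 := by
      obtain ⟨i, hi⟩ := h5
      rw [← hi]
      exact mul_inv_eq_iff_eq_mul.2 (a.z_comm.zpow_right i).eq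
    rw [h6, inv_pow, eq_inv_iff_mul_eq_one, ← pow_add] at h4
    have h22 : orderOf u ∣ 22 := orderOf_dvd_of_pow_eq_one h4
    exact orderOf_dvd_iff_pow_eq_one.1 ((Nat.dvd_gcd hord h22).trans (dvd_of_eq (by norm_num)))
  -- the normaliser
  set Z := zpowers x with hZdef
  set N := normalizer (Z : Set G) with hN
  have hCN : centralizer ({x} : Set G) ≤ N := by
    intro g hg
    refine centralizer_le_normalizer _ (mem_centralizer_iff.2 ?_)
    rintro _ ⟨i, rfl⟩
    exact (((show Commute g x from mem_centralizer_singleton_iff.1 hg).zpow_right i).symm).eq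
  have hCZ : centralizer (Z : Set G) = centralizer ({x} : Set G) := by
    refine le_antisymm (centralizer_le (Set.singleton_subset_iff.2 (mem_zpowers x))) fun g hg => mem_centralizer_iff.2 ?_
    rintro _ ⟨i, rfl⟩
    exact (((show Commute g x from mem_centralizer_singleton_iff.1 hg).zpow_right i).symm).eq
  have hUle : normalizer ((U : Subgroup G) : Set G) ≤ N := by
    intro n hn
    have hconj : ∀ m ∈ normalizer ((U : Subgroup G) : Set G), ∀ b ∈ Z, m * b * m⁻¹ ∈ Z := by
      intro m hm b hb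
      have hbU : b ∈ (U : Subgroup G) := zpowers_le.2 hx_mem hb
      refine hcentre _ ((mem_normalizer_iff.1 hm b).1 hbU) fun w hw => ?_
      have hw' : m⁻¹ * w * m⁻¹⁻¹ ∈ (U : Subgroup G) := (mem_normalizer_iff.1 (inv_mem hm) w).1 hw
      have hbw : Commute b (m⁻¹ * w * m⁻¹⁻¹) := by
        obtain ⟨i, rfl⟩ := hb
        exact ((show Commute (m⁻¹ * w * m⁻¹⁻¹) x from
          mem_centralizer_singleton_iff.1 (hOC hw')).zpow_right i).symm
      have := hbw.map (MulAut.conj m)
      simpa [mul_assoc] using this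
    refine mem_normalizer_iff.2 fun b => ⟨hconj n hn b, fun hb => ?_⟩
    simpa [mul_assoc] using hconj _ (inv_mem hn) _ hb
  have hNU : N ≤ normalizer ((U : Subgroup G) : Set G) := by
    intro n hn
    set C := centralizer ({x} : Set G) with hC
    have hnor : ((U : Subgroup G).subgroupOf C).Normal := by
      rw [normal_subgroupOf_iff_le_normalizer hOC]; exact hOn
    let S : Sylow 11 C := U.subtype hOC
    haveI : (S : Subgroup C).Normal := hnor
    have huniq : ∀ V : Subgroup G, V ≤ C → Nat.card V = 11 ^ 3 → V = (U : Subgroup G) := by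
      intro V hVC hV
      haveI : Unique (Sylow 11 C) := Sylow.unique_of_normal S hnor
      obtain ⟨T, hT⟩ := ((IsPGroup.of_card hV).of_equiv (subgroupOfEquivOfLe hVC).symm).exists_le_sylow
      rw [show T = S from Subsingleton.elim _ _] at hT
      refine Subgroup.eq_of_le_of_card_ge (fun b hb => ?_) (by rw [hV, hO])
      exact hT (x := ⟨b, hVC hb⟩) hb
    refine mem_normalizer_iff_map_conj_eq.2 (huniq _ ?_ ?_)
    · rintro _ ⟨b, hb, rfl⟩
      rw [← hCZ, mem_centralizer_iff]
      intro k hk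
      have hk' : n⁻¹ * k * n⁻¹⁻¹ ∈ Z := (mem_normalizer_iff.1 (inv_mem hn) k).1 hk
      have hbk := (mem_centralizer_iff.1 (hCZ.ge (hOC hb)) _ hk')
      show k * (n * b * n⁻¹) = n * b * n⁻¹ * k
      calc k * (n * b * n⁻¹) = n * (n⁻¹ * k * n⁻¹⁻¹ * b) * n⁻¹ := by group
        _ = n * b * n⁻¹ * k := by rw [hbk]; group
    · exact (Nat.card_congr (equivMapOfInjective _ _ (MulAut.conj n).injective).toEquiv).symm.trans hO
  have hNeq : normalizer ((U : Subgroup G) : Set G) = N := le_antisymm hUle hNU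
  have hcardN : Nat.card N = 2 ^ 4 * 3 * 5 * 11 ^ 3 := by
    set f := Z.normalizerMonoidHom with hf
    have hker : f.ker = (centralizer (Z : Set G)).subgroupOf N := Z.normalizerMonoidHom_ker
    have h := f.ker.card_eq_card_quotient_mul_card_subgroup
    rw [Nat.card_congr (QuotientGroup.quotientKerEquivRange f).toEquiv, hker,
      Nat.card_congr (subgroupOfEquivOfLe (hCZ ▸ hCN)).toEquiv, hCZ, hcC] at h
    haveI : IsCyclic Z := inferInstance
    have haut : Nat.card (MulAut Z) = 10 := by
      rw [IsCyclic.card_mulAut, Nat.card_zpowers, h11]; decide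
    have hdvd : Nat.card f.range ∣ 10 := haut ▸ Subgroup.card_subgroup_dvd_card _
    set d := Nat.card f.range
    have hidx : (normalizer ((U : Subgroup G) : Set G)).index % 11 = 1 := by
      have hs : Nat.card (Sylow 11 G) % 11 = 1 % 11 := card_sylow_modEq_one 11 G
      rw [Sylow.card_eq_index_normalizer U] at hs; exact hs
    have hci := (normalizer ((U : Subgroup G) : Set G)).card_mul_index
    rw [hNeq] at hci hidx
    change Nat.card N = _ at h
    rw [h, e.card] at hci
    have hd : d = 10 := by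
      refine ten_of_mod d (Nat.mem_divisors.2 ⟨hdvd, by norm_num⟩) ?_
      rw [← hci, Nat.mul_div_cancel_left _ (Nat.mul_pos Nat.card_pos (by norm_num))]
      exact hidx
    rw [h, hd]; norm_num
  exact ⟨x, U, ⟨e, a, hOC, hOn, hcC, hOH, hO, hextra, hcentre, hexp, hNeq, by rw [hNeq, hcardN]⟩⟩

end Cfsg.Agent.H69.JFourSylow
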