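import Cfsg.Agent.H69.JFourSylow.Local
import Cfsg.Agent.H61.ZStarInst
import Cfsg.Agent.H77.AutPGroup
import Cfsg.Agent.Coprime.Action

/-!
The centraliser in `G` of an element of order 11 of `C`.
-/

set_option autoImplicit false

namespace Cfsg.Agent.H69.JFourSylow

open Subgroup Cfsg.Agent.H43.JFour Cfsg.Agent.H43.JFour.Ctx
open scoped Pointwise

universe u v

variable {G : Type u} [Group G] [Finite G] {A : Type v} [Group A] {M : Subgroup A} {c : Ctx G A}

/-- The order of J4. -/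
def jOrder : ℕ := 86775571046077562880

/-- The global hypotheses. -/
structure Env (c : Ctx G A) (M : Subgroup A) : Prop where
  ok : c.Ok
  data : AutData A M
  aut : ∀ a : A, orderOf a = 11 → centralizer ({a} : Set A) = zpowers a
  card : Nat.card G = jOrder
  noncomm : ¬ IsMulCommutative G
  five : ∀ q : G, orderOf q = 5 → ¬ 11 ∣ Nat.card (centralizer ({q} : Set G))
  seven : ∀ q : G, orderOf q = 7 → ¬ 11 ∣ Nat.card (centralizer ({q} : Set G))

omit [Finite G] in
/-- Two involutions whose product has odd order are conjugate under that product. -/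
theorem conj_of_odd {z w : G} (hz : z * z = 1) (hw : w * w = 1) (hodd : Odd (orderOf (z * w))) :
    ∃ n ∈ zpowers (z * w), n * z * n⁻¹ = w := by
  obtain ⟨m, hm⟩ := hodd
  set d := z * w with hd
  have hzd : z * d * z⁻¹ = d⁻¹ := by
    rw [hd, mul_inv_rev, inv_eq_of_mul_eq_one_left hz, inv_eq_of_mul_eq_one_left hw,
      show z * (z * w) = z * z * w from (mul_assoc _ _ _).symm, hz, one_mul]
  refine ⟨d ^ m, pow_mem (mem_zpowers d) m, ?_⟩
  have h1 : z * d ^ m * z⁻¹ = (d ^ m)⁻¹ := by rw [← conj_pow, hzd, inv_pow]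
  have h2 : d ^ (2 * m + 1) = 1 := by rw [← hm, pow_orderOf_eq_one]
  calc d ^ m * z * (d ^ m)⁻¹ = d ^ m * (d ^ m) * z := by
        rw [mul_assoc, mul_assoc]; congr 1
        rw [← h1, ← mul_assoc, ← mul_assoc, hz, one_mul, inv_eq_of_mul_eq_one_left hz]
    _ = d ^ (2 * m) * z := by rw [← pow_add, two_mul]
    _ = d⁻¹ * z := by
        congr 1
        exact eq_inv_of_mul_eq_one_left (by rw [← pow_succ]; exact h2)
    _ = w := by
        rw [hd, mul_inv_rev, inv_eq_of_mul_eq_one_left hz, inv_eq_of_mul_eq_one_left hw,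
          mul_assoc, hz, mul_one]

omit [Finite G] in
theorem mem_norm_sup {X Y : Subgroup G} {g : G} (hX : g ∈ normalizer (X : Set G))
    (hY : g ∈ normalizer (Y : Set G)) : g ∈ normalizer ((X ⊔ Y : Subgroup G) : Set G) := by
  rw [mem_normalizer_iff_map_conj_eq] at hX hY ⊢
  rw [Subgroup.map_sup, hX, hY]

omit [Finite G] in
theorem le_norm_of_commute {X : Subgroup G} {g : G} (h : ∀ b ∈ X, Commute b g) :
    zpowers g ≤ normalizer (X : Set G) := by
  refine zpowers_le.2 (centralizer_le_normalizer _ ?_)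
  exact mem_centralizer_iff.2 fun b hb => (h b hb).eq

namespace Env

variable (e : Env c M)
include e

omit [Finite G] in
theorem at_ {x : G} (hx : x ∈ c.C) (h : orderOf x = 11) : At c M x :=
  ⟨e.ok, e.data, e.aut, hx, h⟩

theorem two_sub {x : G} (hx : x ∈ c.C) (h11 : orderOf x = 11) {T : Subgroup G} (hT : IsPGroup 2 T)
    (hQT : QX c x ≤ T) (hTx : T ≤ centralizer ({x} : Set G)) : T = QX c x := by
  haveI : Fact (Nat.Prime 2) := ⟨Nat.prime_two⟩
  have a := e.at_ hx h11
  by_contra hne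
  have hlt : (QX c x).subgroupOf T < ⊤ := lt_top_iff_ne_top.2 fun h =>
    hne (le_antisymm (Subgroup.subgroupOf_eq_top.1 h) hQT)
  haveI : Group.IsNilpotent ↥T := hT.isNilpotent
  obtain ⟨⟨n, hnT⟩, hnN, hnQ⟩ := SetLike.exists_of_lt (Group.normalizerCondition_of_isNilpotent _ hlt)
  rw [mem_subgroupOf] at hnQ
  have hzQ := a.z_mem_Q
  have hnz : n * c.z * n⁻¹ = c.z := by
    refine a.unique_invol ((mem_normalizer_iff.1 hnN ⟨c.z, hQT hzQ⟩).1 hzQ) ?_
    rw [← MulAut.conj_apply, MulEquiv.orderOf_eq]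
    exact e.ok.ord
  have hnH : n ∈ c.H := c.mem_H.2 (mul_inv_eq_iff_eq_mul.1 hnz).symm
  set S := c.H ⊓ centralizer ({x} : Set G) with hS
  have hST : IsPGroup 2 ↥(T ⊓ c.H) := hT.to_le inf_le_left
  obtain ⟨k, hk⟩ := IsPGroup.iff_card.1 hST
  have hdvd : 2 ^ k ∣ 264 := by
    rw [← hk, ← a.card_CH]
    exact card_dvd_of_le (le_inf inf_le_right (inf_le_left.trans hTx))
  have hk3 : k ≤ 3 := by
    by_contra h
    have : 2 ^ 4 ∣ 264 := (Nat.pow_dvd_pow 2 (by omega)).trans hdvd
    norm_num at this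
  have hle : Nat.card ↥(T ⊓ c.H) ≤ Nat.card (QX c x) := by
    rw [hk, a.card_Q]; exact (Nat.pow_le_pow_right (by norm_num) hk3).trans (by norm_num)
  have := Subgroup.eq_of_le_of_card_ge (le_inf hQT (inf_le_left.trans e.ok.le_H)) hle
  exact hnQ (this.symm ▸ mem_inf.2 ⟨hnT, hnH⟩)

/-- The odd normal part of the centraliser. -/
theorem exists_core {x : G} (hx : x ∈ c.C) (h11 : orderOf x = 11) :
    ∃ O : Subgroup G, O ≤ centralizer ({x} : Set G) ∧
      centralizer ({x} : Set G) ≤ normalizer (O : Set G) ∧ Odd (Nat.card O) ∧ x ∈ O ∧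
      O ⊓ c.H = zpowers x ∧ Nat.card (centralizer ({x} : Set G)) = 24 * Nat.card O := by
  haveI : Fact (Nat.Prime 2) := ⟨Nat.prime_two⟩
  have a := e.at_ hx h11
  set C := centralizer ({x} : Set G) with hC
  have hzC : c.z ∈ C := (mem_inf.1 a.z_mem_Q).2
  have hQC : QX c x ≤ C := inf_le_right
  obtain ⟨P, hP⟩ := ((IsPGroup.of_card (n := 3) (by rw [a.card_Q]; norm_num) : IsPGroup 2 (QX c x)).of_equiv
    (subgroupOfEquivOfLe hQC).symm).exists_le_sylow
  have hPQ : (P : Subgroup C).map C.subtype = QX c x :=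
    e.two_sub hx h11 (P.isPGroup'.map _) (fun q hq => ⟨⟨q, hQC hq⟩, hP hq, rfl⟩) (map_subtype_le _)
  have hu : orderOf (⟨c.z, hzC⟩ : C) = 2 := by rw [Subgroup.orderOf_mk]; exact e.ok.ord
  obtain ⟨N, hN, hNodd, hNc⟩ := H61.zStarTheorem P ⟨c.z, hzC⟩ hu (hP a.z_mem_Q) fun g hg => by
    refine Subtype.ext (a.unique_invol (hPQ ▸ ⟨_, hg, rfl⟩) ?_)
    rw [Subgroup.orderOf_coe, ← MulAut.conj_apply, MulEquiv.orderOf_eq]
    exact hu
  set N' := N.map C.subtype with hN'
  have hN'C : N' ≤ C := map_subtype_le _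
  have hN'n : C ≤ normalizer (N' : Set G) := by
    intro g hg
    refine mem_normalizer_iff.2 fun b => ⟨?_, fun hb => ?_⟩
    · rintro ⟨b, hb, rfl⟩
      exact ⟨⟨g, hg⟩ * b * ⟨g, hg⟩⁻¹, hN.conj_mem b hb _, rfl⟩
    · obtain ⟨d, hd, e'⟩ := hb
      refine ⟨⟨g, hg⟩⁻¹ * d * ⟨g, hg⟩⁻¹⁻¹, hN.conj_mem d hd _, ?_⟩
      show g⁻¹ * (d : G) * g⁻¹⁻¹ = b
      rw [show (d : G) = g * b * g⁻¹ from e']
      group
  have hN'odd : Odd (Nat.card N') := by
    rw [hN', Subgroup.card_map_of_injective C.subtype_injective]; exact hNodd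
  have hfix : N' ⊓ c.H ≤ zpowers x := by
    intro h hh
    obtain ⟨hhN, hhH⟩ := mem_inf.1 hh
    refine a.mem_zpowers_of_cent hhH (mem_centralizer_singleton_iff.1 (hN'C hhN))
      (hN'odd.of_dvd_nat (orderOf_dvd_natCard N' hhN)) fun b hb => ?_
    obtain ⟨hbE, hbx⟩ := mem_inf.1 hb
    have h1 : h * b * h⁻¹ * b⁻¹ ∈ N' ⊓ QX c x := by
      refine mem_inf.2 ⟨?_, mem_inf.2 ⟨mul_mem (e.ok.conjE hhH hbE) (inv_mem hbE),
        mul_mem (mul_mem (mul_mem (hN'C hhN) hbx) (inv_mem (hN'C hhN))) (inv_mem hbx)⟩⟩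
      rw [mul_assoc, mul_assoc, ← mul_assoc b]
      exact mul_mem hhN ((mem_normalizer_iff.1 (hN'n hbx) _).1 (inv_mem hhN))
    have hbot : N' ⊓ QX c x = ⊥ := inf_eq_bot_of_coprime (by
      rw [a.card_Q]; exact Nat.Coprime.pow_right 3 (Nat.coprime_two_right.2 hN'odd))
    rw [hbot, mem_bot] at h1
    exact (commute_iff_eq _ _).2 (mul_inv_eq_iff_eq_mul.1 (mul_inv_eq_one.1 h1))
  have hxN : zpowers x ≤ normalizer (N' : Set G) :=
    zpowers_le.2 (hN'n (mem_centralizer_singleton_iff.2 rfl))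
  set O := N' ⊔ zpowers x with hO
  have hxC : zpowers x ≤ C := zpowers_le.2 (mem_centralizer_singleton_iff.2 rfl)
  have hOC : O ≤ C := sup_le hN'C hxC
  have hOn : C ≤ normalizer (O : Set G) := by
    intro g hg
    have hgx : g ∈ normalizer (zpowers x : Set G) := by
      refine mem_normalizer_iff.2 fun b => ?_
      have key : ∀ i : ℤ, g * x ^ i * g⁻¹ = x ^ i := fun i => by
        rw [((show Commute g x from mem_centralizer_singleton_iff.1 hg).zpow_right i).eq,
          mul_inv_cancel_right]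
      constructor
      · rintro ⟨i, rfl⟩; exact ⟨i, (key i).symm⟩
      · rintro ⟨i, hi⟩
        refine ⟨i, mul_left_cancel (a := g) (mul_right_cancel (b := g⁻¹) ?_)⟩
        show g * x ^ i * g⁻¹ = _
        rw [key]; exact hi
    exact mem_norm_sup (hN'n hg) hgx
  have hOodd : Odd (Nat.card O) := by
    have h := H31.FF.card_sup_mul_card_inf hxN
    have h2 : Odd (Nat.card N' * Nat.card (zpowers x)) := by
      rw [Nat.card_zpowers, h11]; exact hN'odd.mul (by decide)
    exact h2.of_dvd_nat ⟨_, h.symm⟩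
  have hxO : x ∈ O := mem_sup_right (mem_zpowers x)
  have hOH : O ⊓ c.H = zpowers x := by
    refine le_antisymm (fun h hh => ?_) (le_inf le_sup_right (zpowers_le.2 a.mem_H))
    obtain ⟨hhO, hhH⟩ := mem_inf.1 hh
    obtain ⟨n, hn, i, hi, rfl⟩ := exists_mul_of_mem_sup hxN hhO
    have hiH : i ∈ c.H := zpowers_le.2 a.mem_H hi
    exact mul_mem (hfix (mem_inf.2 ⟨hn, by simpa using mul_mem hhH (inv_mem hiH)⟩)) hi
  refine ⟨O, hOC, hOn, hOodd, hxO, hOH, ?_⟩
  set S := c.H ⊓ C with hS
  have hSn : S ≤ normalizer (O : Set G) := inf_le_right.trans hOn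
  have hCOS : C = O ⊔ S := by
    refine le_antisymm (fun g hg => ?_) (sup_le hOC inf_le_right)
    have hz2 : c.z * c.z = 1 := e.ok.z_sq
    set w := g * c.z * g⁻¹ with hw
    have hw2 : w * w = 1 := by
      rw [hw, show g * c.z * g⁻¹ * (g * c.z * g⁻¹) = g * (c.z * c.z) * g⁻¹ by group, hz2]; group
    have hzw : c.z * w ∈ N' := ⟨_, hNc ⟨g, hg⟩, by
      show c.z * g * c.z⁻¹ * g⁻¹ = c.z * w
      rw [e.ok.z_inv, hw]; group⟩
    obtain ⟨n, hn, hnw⟩ := conj_of_odd hz2 hw2 (hN'odd.of_dvd_nat (orderOf_dvd_natCard N' hzw))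
    have hnN : n ∈ N' := zpowers_le.2 hzw hn
    have h1 : n⁻¹ * g ∈ S := by
      refine mem_inf.2 ⟨c.mem_H.2 ?_, mul_mem (inv_mem (hN'C hnN)) hg⟩
      calc c.z * (n⁻¹ * g) = n⁻¹ * (n * c.z * n⁻¹) * g := by group
        _ = n⁻¹ * (g * c.z * g⁻¹) * g := by rw [hnw, hw]
        _ = n⁻¹ * g * c.z := by group
    have h2 := mul_mem (mem_sup_left (T := S) (mem_sup_left (T := zpowers x) hnN)) (mem_sup_right (S := O) h1)
    rwa [mul_inv_cancel_left] at h2
  have h := H31.FF.card_sup_mul_card_inf hSn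
  have hinf : O ⊓ S = zpowers x := by
    rw [hS, ← inf_assoc, hOH, inf_eq_left.2 hxC]
  rw [← hCOS, hinf, Nat.card_zpowers, h11, a.card_CH] at h
  omega

/-- The odd part of the centraliser has order `11 ^ 3`. -/
theorem card_core [IsSimpleGroup G] {x : G} (hx : x ∈ c.C) (h11 : orderOf x = 11) {O : Subgroup G}
    (hOC : O ≤ centralizer ({x} : Set G)) (hOn : centralizer ({x} : Set G) ≤ normalizer (O : Set G))
    (hOodd : Odd (Nat.card O)) (hxO : x ∈ O) (hOH : O ⊓ c.H = zpowers x)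
    (hcard : Nat.card (centralizer ({x} : Set G)) = 24 * Nat.card O) : Nat.card O = 11 ^ 3 := by
  haveI : Fact (Nat.Prime 11) := ⟨by norm_num⟩
  haveI : Fact (Nat.Prime 2) := ⟨Nat.prime_two⟩
  have a := e.at_ hx h11
  set Q := QX c x with hQ
  have hQn : Q ≤ normalizer (O : Set G) := inf_le_right.trans hOn
  have hQp : IsPGroup 2 Q := IsPGroup.of_card (n := 3) (by rw [a.card_Q]; norm_num)
  have hcop : (Nat.card Q).Coprime (Nat.card O) := by
    rw [a.card_Q]; exact Nat.Coprime.pow_left 3 (Nat.coprime_two_left.2 hOodd)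
  have hsol : Group.IsSolvable Q ∨ Group.IsSolvable O := by
    left
    haveI : Group.IsNilpotent ↥Q := hQp.isNilpotent
    infer_instance
  have hOG : 24 * Nat.card O ∣ jOrder := hcard ▸ e.card ▸ card_subgroup_dvd_card _
  -- invariant Sylow subgroups and the semiregular action of `Q`
  have key : ∀ {q : ℕ}, [Fact q.Prime] → ∃ Y : Subgroup G, Y ≤ O ∧
      Nat.card Y = q ^ (Nat.card O).factorization q ∧ (q = 11 → x ∈ Y) ∧
      8 ∣ Nat.card {y : G // y ∈ Y ∧ y ∉ zpowers x} := by
    intro q hq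
    obtain ⟨T, -, hTn⟩ := Coprime.exists_invariant_sylow_ge hQn hcop hsol q (U := ⊥) bot_le
      IsPGroup.of_bot (by intro g _; exact mem_normalizer_iff.2 fun b => by simp)
    set Y := (T : Subgroup O).map O.subtype with hY
    refine ⟨Y, map_subtype_le _, ?_, ?_, ?_⟩
    · rw [hY, Subgroup.card_map_of_injective O.subtype_injective, T.card_eq_multiplicity]
    · rintro rfl
      refine ⟨⟨x, hxO⟩, ?_, rfl⟩
      have hxc : (⟨x, hxO⟩ : O) ∈ center O := mem_center_iff.2 fun b =>
        Subtype.ext (mem_centralizer_singleton_iff.1 (hOC b.2))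
      haveI : (zpowers (⟨x, hxO⟩ : O)).Normal := ⟨fun n hn g => by
        obtain ⟨k, rfl⟩ := mem_zpowers_iff.1 hn
        rw [(show Commute g ⟨x, hxO⟩ from mem_center_iff.1 hxc g).zpow_right k |>.eq, mul_inv_cancel_right]
        exact zpow_mem (mem_zpowers _) k⟩
      have hp : IsPGroup 11 (zpowers (⟨x, hxO⟩ : O)) := IsPGroup.of_card (n := 1)
        (by rw [Nat.card_zpowers, Subgroup.orderOf_mk, h11, pow_one])
      exact (hp.to_sup_of_normal_left T.isPGroup' |> fun h => T.is_maximal' h le_sup_right) ▸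
        mem_sup_left (mem_zpowers _)
    · have hfix : ∀ (b : Q) (y : {y : G // y ∈ Y ∧ y ∉ zpowers x}),
          (b : G) * y.1 * (b : G)⁻¹ = y.1 → b = 1 := by
        intro b y hby
        by_contra hb1
        have hby' : Commute (b : G) y.1 := mul_inv_eq_iff_eq_mul.1 hby
        have hb1' : (b : G) ≠ 1 := fun h => hb1 (Subtype.ext h)
        have hzy : Commute c.z y.1 := by
          by_cases hbz : (b : G) = c.z
          · rwa [hbz] at hby'
          · rw [← a.sq_eq_z b.2 hb1' hbz]; exact hby'.mul_left hby'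
        refine y.2.2 ?_
        exact hOH.le (mem_inf.2 ⟨map_subtype_le _ y.2.1, c.mem_H.2 hzy⟩)
      have hmem : ∀ (b : Q) (y : {y : G // y ∈ Y ∧ y ∉ zpowers x}),
          (b : G) * y.1 * (b : G)⁻¹ ∈ Y ∧ (b : G) * y.1 * (b : G)⁻¹ ∉ zpowers x := by
        intro b y
        refine ⟨(mem_normalizer_iff.1 (hTn b.2) y.1).1 y.2.1, fun h => y.2.2 ?_⟩
        obtain ⟨i, hi⟩ := mem_zpowers_iff.1 h
        refine mem_zpowers_iff.2 ⟨i, ?_⟩
        have hbx : Commute (b : G) (x ^ i) :=
          (show Commute (b : G) x from mem_centralizer_singleton_iff.1 (mem_inf.1 b.2).2).zpow_right i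
        calc x ^ i = (b : G)⁻¹ * (b * x ^ i) := by group
          _ = (b : G)⁻¹ * (x ^ i * b) := by rw [hbx.eq]
          _ = y.1 := by rw [hi]; group
      letI : MulAction Q {y : G // y ∈ Y ∧ y ∉ zpowers x} :=
        { smul := fun b y => ⟨(b : G) * y.1 * (b : G)⁻¹, hmem b y⟩
          one_smul := fun y => Subtype.ext (show ((1 : Q) : G) * y.1 * ((1 : Q) : G)⁻¹ = y.1 by simp)
          mul_smul := fun b d y => Subtype.ext (show ((b * d : Q) : G) * y.1 * ((b * d : Q) : G)⁻¹ =
            (b : G) * ((d : G) * y.1 * (d : G)⁻¹) * (b : G)⁻¹ by rw [Subgroup.coe_mul]; group) }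
      exact a.card_Q ▸ H77.card_dvd_of_free fun b y h => hfix b y (congrArg Subtype.val h)
  have hO0 : Nat.card O ≠ 0 := Nat.card_pos.ne'
  have hG0 : jOrder ≠ 0 := by norm_num [jOrder]
  have hOdvd : Nat.card O ∣ jOrder := (Dvd.intro_left 24 rfl).trans hOG
  -- primes other than 11
  have hother : ∀ {q : ℕ}, [Fact q.Prime] → q ≠ 11 → 8 ∣ q ^ (Nat.card O).factorization q - 1 := by
    intro q hq hq11
    obtain ⟨Y, hYO, hYc, -, h8⟩ := key (q := q)
    have hcop : (Nat.card Y).Coprime (Nat.card (zpowers x)) := by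
      rw [hYc, Nat.card_zpowers, h11]
      exact Nat.Coprime.pow_left _ ((Nat.coprime_primes hq.out (by norm_num)).2 hq11)
    have he : Nat.card {y : G // y ∈ Y ∧ y ∉ zpowers x} = Nat.card Y - 1 := by
      have h1 : {y : G | y ∈ Y ∧ y ∉ zpowers x} = (Y : Set G) \ {1} := by
        ext y
        constructor
        · rintro ⟨h, h'⟩; exact ⟨h, fun h1 => h' (h1 ▸ one_mem _)⟩
        · rintro ⟨h, h'⟩
          refine ⟨h, fun hz => h' ?_⟩
          have : y ∈ Y ⊓ zpowers x := mem_inf.2 ⟨h, hz⟩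
          rwa [inf_eq_bot_of_coprime hcop, mem_bot] at this
      show Nat.card ↥({y : G | y ∈ Y ∧ y ∉ zpowers x}) = _
      rw [h1, Nat.card_coe_set_eq, Set.ncard_diff_singleton_of_mem (one_mem Y), ← Nat.card_coe_set_eq]
      rfl
    rwa [he, hYc] at h8
  have hsmall : ∀ q : ℕ, q.Prime → ∀ k : ℕ, ¬ q ^ (k + 1) ∣ jOrder → (Nat.card O).factorization q ≤ k := by
    intro q hq k hk
    by_contra h
    exact hk (((Nat.pow_dvd_pow q (show k + 1 ≤ (Nat.card O).factorization q by omega))).trans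
      ((Nat.ordProj_dvd (Nat.card O) q).trans hOdvd))
  have hno : ∀ q : ℕ, q.Prime → q ≠ 11 → ¬ q ^ 2 ∣ jOrder → ¬ 8 ∣ q - 1 → ¬ q ∣ Nat.card O := by
    intro q hq hq11 hsq h8 hdvd
    haveI : Fact q.Prime := ⟨hq⟩
    have h1 : 0 < (Nat.card O).factorization q := hq.factorization_pos_of_dvd hO0 hdvd
    have h2 := hsmall q hq 1 hsq
    have := hother (q := q) hq11
    rw [show (Nat.card O).factorization q = 1 by omega, pow_one] at this
    exact h8 this
  have h5 : ¬ 5 ∣ Nat.card O := fun hd => by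
    haveI : Fact (Nat.Prime 5) := ⟨by norm_num⟩
    obtain ⟨g, hg⟩ := exists_prime_orderOf_dvd_card' (G := O) 5 hd
    refine e.five g (by rw [Subgroup.orderOf_coe]; exact hg) (h11 ▸ orderOf_dvd_natCard _ ?_)
    exact mem_centralizer_singleton_iff.2 (mem_centralizer_singleton_iff.1 (hOC g.2)).symm
  have h7 : ¬ 7 ∣ Nat.card O := fun hd => by
    haveI : Fact (Nat.Prime 7) := ⟨by norm_num⟩
    obtain ⟨g, hg⟩ := exists_prime_orderOf_dvd_card' (G := O) 7 hd
    refine e.seven g (by rw [Subgroup.orderOf_coe]; exact hg) (h11 ▸ orderOf_dvd_natCard _ ?_)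
    exact mem_centralizer_singleton_iff.2 (mem_centralizer_singleton_iff.1 (hOC g.2)).symm
  have h3 : ¬ 3 ∣ Nat.card O := fun hd => by
    haveI : Fact (Nat.Prime 3) := ⟨Nat.prime_three⟩
    have h1 : 0 < (Nat.card O).factorization 3 := Nat.prime_three.factorization_pos_of_dvd hO0 hd
    have h2 := hsmall 3 Nat.prime_three 3 (by norm_num [jOrder])
    have h8 := hother (q := 3) (by norm_num)
    have hk : (Nat.card O).factorization 3 = 2 := by
      have : ∀ k < 4, 0 < k → 8 ∣ 3 ^ k - 1 → k = 2 := by decide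
      exact this _ (by omega) h1 h8
    have h27 : 3 ^ 3 ∣ Nat.card (centralizer ({x} : Set G)) := by
      rw [hcard]
      have hpd := Nat.ordProj_dvd (Nat.card O) 3
      rw [hk] at hpd
      rw [show (3 : ℕ) ^ 3 = 3 * 3 ^ 2 by norm_num]
      exact mul_dvd_mul (show 3 ∣ 24 by norm_num) hpd
    obtain ⟨T, hT⟩ := Sylow.exists_subgroup_card_pow_prime 3 h27
    obtain ⟨S0⟩ : Nonempty (Sylow 3 c.C) := inferInstance
    set R := (S0 : Subgroup c.C).map c.C.subtype
    have hR := e.ok.rThree_of_sylow e.data S0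
    obtain ⟨SR, hSR⟩ := e.ok.R_sylow e.data hR e.noncomm
    have hTG : Nat.card (T.map (centralizer ({x} : Set G)).subtype) = 3 ^ 3 := by
      rw [Subgroup.card_map_of_injective (Subgroup.subtype_injective _), hT]
    obtain ⟨S, hS⟩ := (IsPGroup.of_card hTG).exists_le_sylow
    obtain ⟨g, hg⟩ := MulAction.exists_smul_eq G S SR
    have hmapR : (T.map (centralizer ({x} : Set G)).subtype).map (MulAut.conj g).toMonoidHom = R := by
      refine Subgroup.eq_of_le_of_card_ge (le_of_le_of_eq ?_ hSR) (le_of_eq ?_)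
      · rw [← hg, Sylow.coe_subgroup_smul]
        exact Subgroup.map_mono hS
      · rw [Nat.card_congr (Subgroup.equivMapOfInjective (T.map (centralizer ({x} : Set G)).subtype)
          (MulAut.conj g).toMonoidHom (MulAut.conj g).injective).toEquiv] at hTG
        rw [hR.2, hTG]; norm_num
    set x' := g * x * g⁻¹ with hx'
    have hcomm : ∀ r ∈ R, Commute x' r := by
      intro r hr
      rw [← hmapR] at hr
      obtain ⟨_, ⟨t, -, rfl⟩, rfl⟩ := hr
      exact (show Commute x (t : G) from (mem_centralizer_singleton_iff.1 t.2).symm).map (MulAut.conj g)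
    have hPR := e.ok.P_le_R e.data hR
    have hx'C : x' ∈ c.C := by
      rw [← e.ok.cent_P e.data e.noncomm, mem_centralizer_iff]
      exact fun p hp => (hcomm p (hPR hp)).eq.symm
    have hx'o : orderOf x' = 11 := by rw [hx', ← MulAut.conj_apply, MulEquiv.orderOf_eq]; exact h11
    have a' := e.at_ hx'C hx'o
    have hall : ∀ r ∈ R, c.pr r = 1 := by
      intro r hr
      have hm : c.pr r ∈ centralizer ({c.pr x'} : Set A) := mem_centralizer_singleton_iff.2 (by
        rw [← e.ok.pr_mul _ (mem_inf.1 (hR.1 hr)).1 _ a'.mem_H,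
          ← e.ok.pr_mul _ a'.mem_H _ (mem_inf.1 (hR.1 hr)).1, (hcomm r hr).eq])
      rw [e.aut _ a'.pr_ord] at hm
      have d11 : orderOf (c.pr r) ∣ 11 := a'.pr_ord ▸ orderOf_dvd_of_mem_zpowers hm
      have d27 : orderOf (c.pr r) ∣ 27 := by
        refine dvd_trans ?_ (hR.2 ▸ orderOf_dvd_natCard R hr)
        exact orderOf_map_dvd e.ok.prHom ⟨r, (mem_inf.1 (hR.1 hr)).1⟩ |>.trans
          (by rw [Subgroup.orderOf_mk])
      exact orderOf_eq_one_iff.1 (Nat.eq_one_of_dvd_one (by simpa using Nat.dvd_gcd d11 d27))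
    have hRP : R ≤ c.P := fun r hr => by
      obtain ⟨p, hp, hrp⟩ := e.ok.C_ker (hR.1 hr) (hall r hr)
      rcases hrp with rfl | rfl
      · exact hp
      · exfalso
        have hzR : c.z ∈ R := by simpa using mul_mem hr (inv_mem (hPR hp))
        have := orderOf_dvd_natCard R hzR
        rw [e.ok.ord, hR.2] at this; norm_num at this
    have := card_dvd_of_le hRP
    rw [hR.2, e.ok.cardP] at this
    norm_num at this
  have hpdiv : ∀ q : ℕ, q.Prime → q ∣ Nat.card O → q = 11 := by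
    intro q hq hd
    have hqG : q ∣ 2 ^ 21 * 3 ^ 3 * 5 * 7 * 11 ^ 3 * 23 * 29 * 31 * 37 * 43 := by
      have := hd.trans hOdvd; norm_num [jOrder] at this ⊢; exact this
    have hmem : q ∈ [2, 3, 5, 7, 11, 23, 29, 31, 37, 43] := by
      have h1 : ∀ r : ℕ, r.Prime → q ∣ r → q = r := fun r hr h => (Nat.prime_dvd_prime_iff_eq hq hr).1 h
      simp only [(Nat.Prime.dvd_mul hq)] at hqG
      rcases hqG with ((((((((h | h) | h) | h) | h) | h) | h) | h) | h) | h <;>
        first
        | (have := hq.dvd_of_dvd_pow h; rw [h1 _ (by norm_num) this]; simp)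
        | (rw [h1 _ (by norm_num) h]; simp)
    simp only [List.mem_cons, List.not_mem_nil, or_false] at hmem
    rcases hmem with rfl | rfl | rfl | rfl | rfl | rfl | rfl | rfl | rfl | rfl
    · exact absurd (Nat.even_iff.2 (Nat.mod_eq_zero_of_dvd hd |> id)) (Nat.not_even_iff_odd.2 hOodd)
    · exact absurd hd h3
    · exact absurd hd h5
    · exact absurd hd h7
    · rfl
    all_goals exact absurd hd (hno _ hq (by norm_num) (by norm_num [jOrder]) (by norm_num))
  have hpow : Nat.card O = 11 ^ (Nat.card O).factorization 11 :=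
    by
      obtain ⟨k, hk⟩ : ∃ k, Nat.card O = 11 ^ k :=
        ⟨_, Nat.eq_prime_pow_of_unique_prime_dvd hO0 (fun {d} hd hd' => hpdiv d hd hd')⟩
      rw [hk, Nat.Prime.factorization_pow (by norm_num), Finsupp.single_eq_same]
  have hk3 := hsmall 11 (by norm_num) 3 (by norm_num [jOrder])
  obtain ⟨Y, hYO, hYc, hxY, h8⟩ := key (q := 11)
  have he : Nat.card {y : G // y ∈ Y ∧ y ∉ zpowers x} = Nat.card Y - 11 := by
    show Nat.card ↥({y : G | y ∈ Y ∧ y ∉ zpowers x}) = _
    rw [show {y : G | y ∈ Y ∧ y ∉ zpowers x} = (Y : Set G) \ (zpowers x : Set G) from rfl,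
      Nat.card_coe_set_eq, Set.ncard_diff (zpowers_le.2 (hxY rfl)), ← Nat.card_coe_set_eq,
      ← Nat.card_coe_set_eq]
    show Nat.card Y - Nat.card (zpowers x) = _
    rw [Nat.card_zpowers, h11]
  rw [he, hYc] at h8
  -- a Sylow subgroup through `x` shows that the exponent is at least two
  have hge : 11 ^ 2 ∣ Nat.card (centralizer ({x} : Set G)) := by
    obtain ⟨S, hS⟩ := (IsPGroup.of_card (G := zpowers x) (n := 1)
      (by rw [Nat.card_zpowers, h11, pow_one])).exists_le_sylow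
    have hxS : x ∈ (S : Subgroup G) := hS (mem_zpowers x)
    have hcardS : Nat.card S = 11 ^ 3 := by
      rw [S.card_eq_multiplicity, e.card, show jOrder = 11 ^ 3 * 65195770883604480 by norm_num [jOrder],
        Nat.factorization_mul (by norm_num) (by norm_num), Nat.factorization_pow]
      simp [(show Nat.Prime 11 by norm_num).factorization, Nat.factorization_eq_zero_of_not_dvd]
    set Z := (center (S : Subgroup G)).map (S : Subgroup G).subtype with hZ
    set X := Z ⊔ zpowers x with hX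
    have hXS : X ≤ (S : Subgroup G) := sup_le (map_subtype_le _) hS
    have hXC : X ≤ centralizer ({x} : Set G) := by
      refine sup_le ?_ (zpowers_le.2 (mem_centralizer_singleton_iff.2 rfl))
      rintro _ ⟨b, hb, rfl⟩
      exact mem_centralizer_singleton_iff.2 (congrArg Subtype.val (mem_center_iff.1 hb ⟨x, hxS⟩)).symm
    by_cases hc : (⟨x, hxS⟩ : (S : Subgroup G)) ∈ center (S : Subgroup G)
    · refine (show 11 ^ 2 ∣ 11 ^ 3 by norm_num).trans (hcardS ▸ card_dvd_of_le ?_)
      intro b hb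
      exact mem_centralizer_singleton_iff.2 (congrArg Subtype.val (mem_center_iff.1 hc ⟨b, hb⟩))
    · haveI : Nontrivial ↥(S : Subgroup G) := Finite.one_lt_card_iff_nontrivial.1 (by rw [hcardS]; norm_num)
      haveI := S.isPGroup'.center_nontrivial
      have hZ1 : 11 ∣ Nat.card Z := by
        rw [hZ, Subgroup.card_map_of_injective (Subgroup.subtype_injective _)]
        obtain ⟨k, hk⟩ := IsPGroup.iff_card.1 (S.isPGroup'.to_subgroup (center (S : Subgroup G)))
        rcases k with - | k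
        · have := Finite.one_lt_card (α := center (S : Subgroup G)); omega
        · rw [hk, pow_succ']; exact dvd_mul_right _ _
      have hn : zpowers x ≤ normalizer (Z : Set G) :=
        le_norm_of_commute fun b hb => mem_centralizer_singleton_iff.1 (hXC (mem_sup_left hb))
      have h := H31.FF.card_sup_mul_card_inf hn
      have hinf : Z ⊓ zpowers x = ⊥ := by
        refine (Subgroup.eq_bot_iff_forall _).2 fun b hb => ?_
        by_contra hb1
        obtain ⟨⟨d, hd, rfl⟩, hbx⟩ := mem_inf.1 hb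
        refine hc ?_
        have hgen := PGroups.zpowers_eq_of_card_eq (p := 11) (by rw [Nat.card_zpowers, h11]) hbx hb1
        obtain ⟨i, hi⟩ := mem_zpowers_iff.1 (hgen ▸ mem_zpowers x)
        have : (⟨x, hxS⟩ : (S : Subgroup G)) = d ^ i := Subtype.ext (by
          rw [Subgroup.coe_zpow]; exact hi.symm)
        rw [this]
        exact zpow_mem hd i
      rw [hinf, Subgroup.card_bot, mul_one, Nat.card_zpowers, h11] at h
      refine dvd_trans ?_ (card_dvd_of_le hXC)
      rw [hX, h, pow_two]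
      exact mul_dvd_mul hZ1 dvd_rfl
  rw [hcard, hpow] at hge
  have hk1 : (Nat.card O).factorization 11 ≠ 1 ∧ (Nat.card O).factorization 11 ≠ 0 := by
    constructor <;> intro h <;> rw [h] at hge <;> norm_num at hge
  have hall : ∀ k < 4, k ≠ 0 → k ≠ 1 → 8 ∣ 11 ^ k - 11 → k = 3 := by decide
  rw [hpow, hall _ (by omega) hk1.2 hk1.1 h8]

end Env

end Cfsg.Agent.H69.JFourSylow
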