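import Cfsg.Agent.H16.J4Low.Main
import Cfsg.Agent.H31.FFPlane
import Cfsg.Agent.H69.JFourSylow.Cent

/-!
The Sylow 11-subgroups of presented J4 are not commutative.
-/

set_option autoImplicit false

namespace Cfsg.Agent.H69.JFourSylow

open Subgroup Cfsg.Spor Cfsg.Agent.H16.J4Low Cfsg.Agent.H45.J4Rep
open scoped Pointwise

universe u

variable {G : Type u} [Group G] [Finite G]

/-- Two elements with central commutator generate a subgroup of 11-power order. -/
theorem isPGroup_pair {a b d : G} (ha : a ^ 11 = 1) (hb : b ^ 11 = 1) (hd : d ^ 11 = 1)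
    (hda : Commute a d) (hdb : Commute b d) (he : d = a⁻¹ * b⁻¹ * a * b) :
    ∃ T : Subgroup G, IsPGroup 11 T ∧ a ∈ T ∧ b ∈ T := by
  haveI : Fact (Nat.Prime 11) := ⟨by norm_num⟩
  have hc : ∀ g : G, g ^ 11 = 1 → Nat.card (zpowers g) ∣ 11 := fun g hg => by
    rw [Nat.card_zpowers]; exact orderOf_dvd_of_pow_eq_one hg
  set S := zpowers a ⊔ zpowers d with hS
  have haS : a ∈ S := mem_sup_left (mem_zpowers a)
  have hdS : d ∈ S := mem_sup_right (mem_zpowers d)
  have hn : zpowers d ≤ normalizer (zpowers a : Set G) := by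
    refine le_norm_of_commute fun g hg => ?_
    obtain ⟨i, rfl⟩ := mem_zpowers_iff.1 hg
    exact hda.zpow_left i
  have hS2 : Nat.card S ∣ 11 ^ 2 := by
    have h := H31.FF.card_sup_mul_card_inf hn
    refine (dvd_mul_right (Nat.card S) _).trans (h.dvd.trans ?_)
    rw [pow_two]
    exact mul_dvd_mul (hc a ha) (hc d hd)
  have hnb : b ∈ normalizer (S : Set G) := by
    rw [mem_normalizer_iff_map_conj_eq]
    refine Subgroup.eq_of_le_of_card_ge ?_
      (le_of_eq (Nat.card_congr (equivMapOfInjective S _ (MulAut.conj b).injective).toEquiv))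
    rw [hS, Subgroup.map_sup, MonoidHom.map_zpowers, MonoidHom.map_zpowers]
    refine sup_le (zpowers_le.2 ?_) (zpowers_le.2 ?_)
    · show b * a * b⁻¹ ∈ S
      have h1 : b * d = b * a⁻¹ * b⁻¹ * a * b := by rw [he]; group
      have h2 : b * a * b⁻¹ = a * d⁻¹ := by
        rw [hdb.eq] at h1
        have h3 : d = b * a⁻¹ * b⁻¹ * a := mul_right_cancel h1
        calc b * a * b⁻¹ = a * (b * a⁻¹ * b⁻¹ * a)⁻¹ := by group
          _ = a * d⁻¹ := by rw [← h3]
      rw [h2]
      exact mul_mem haS (inv_mem hdS)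
    · show b * d * b⁻¹ ∈ S
      rw [hdb.eq, mul_inv_cancel_right]
      exact hdS
  have h := H31.FF.card_sup_mul_card_inf (zpowers_le.2 hnb)
  have h3 : Nat.card ↥(S ⊔ zpowers b) ∣ 11 ^ 3 := by
    refine (dvd_mul_right _ _).trans (h.dvd.trans ?_)
    rw [pow_succ _ 2]
    exact mul_dvd_mul hS2 (hc b hb)
  obtain ⟨k, -, hk⟩ := (Nat.dvd_prime_pow (by norm_num)).1 h3
  exact ⟨S ⊔ zpowers b, IsPGroup.of_card hk, mem_sup_left haS, mem_sup_right (mem_zpowers b)⟩

/-- No Sylow 11-subgroup is commutative. -/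
theorem sylow_noncomm [IsSimpleGroup G] (h : Cfsg.Spor.IsoJ4 G) (U : Sylow 11 G) :
    ¬ ∀ a b : (U : Subgroup G), a * b = b * a := by
  intro hab
  haveI : Fact (Nat.Prime 11) := ⟨by norm_num⟩
  obtain ⟨e⟩ := h
  let f : G →* GL112 := rho.comp e.toMonoidHom
  have hsurj : ∀ g ∈ rho.range, ∃ a : G, f a = g := by
    rintro g ⟨j, rfl⟩
    exact ⟨e.symm j, by show rho (e (e.symm j)) = _; rw [MulEquiv.apply_symm_apply]⟩
  obtain ⟨a, ha⟩ := hsurj _ eA_mem
  obtain ⟨b, hb⟩ := hsurj _ eB_mem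
  obtain ⟨d, hd⟩ := hsurj _ eC_mem
  have hinj : Function.Injective f := by
    rw [← MonoidHom.ker_eq_bot_iff]
    rcases (MonoidHom.normal_ker f).eq_bot_or_eq_top with h | h
    · exact h
    · exfalso
      rw [MonoidHom.ker_eq_top_iff] at h
      exact eA_ne (by rw [← ha, h]; rfl)
  have hpow : ∀ {g : G} {w : GL112}, f g = w → w ^ 11 = 1 → g ^ 11 = 1 := fun hg hw =>
    hinj (by rw [map_pow, hg, hw, map_one])
  have hde : d = a⁻¹ * b⁻¹ * a * b := hinj (by
    rw [map_mul, map_mul, map_mul, map_inv, map_inv, ha, hb, hd]; exact eC_eq)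
  obtain ⟨T, hT, haT, hbT⟩ := isPGroup_pair (hpow ha eA_pow) (hpow hb eB_pow) (hpow hd eC_pow)
    (hinj (by rw [map_mul, map_mul, ha, hd]; exact eA_eC.eq))
    (hinj (by rw [map_mul, map_mul, hb, hd]; exact eB_eC.eq)) hde
  obtain ⟨V, hV⟩ := hT.exists_le_sylow
  obtain ⟨g, hg⟩ := MulAction.exists_smul_eq G U V
  have hm : ∀ x ∈ T, ∃ y : (U : Subgroup G), g * (y : G) * g⁻¹ = x := by
    intro x hx
    have hxV := hV hx
    rw [← hg, Sylow.coe_subgroup_smul] at hxV
    obtain ⟨y, hy, hye⟩ := hxV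
    exact ⟨⟨y, hy⟩, hye⟩
  obtain ⟨y, hy⟩ := hm a haT
  obtain ⟨w, hw⟩ := hm b hbT
  have hcab : Commute a b := by
    rw [← hy, ← hw]
    have := (show Commute (y : G) (w : G) from congrArg Subtype.val (hab y w)).map (MulAut.conj g)
    simpa using this
  refine eC_ne ?_
  have : d = 1 := by
    rw [hde, mul_assoc, hcab.eq]; group
  rw [← hd, this, map_one]

end Cfsg.Agent.H69.JFourSylow
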