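import Cfsg.Agent.H69.JFourSylow.Classes
import Cfsg.Agent.H69.JFourSylow.NonAbelian
import Cfsg.Agent.H69.J4U.Final
import Cfsg.Agent.H54.JFour.FiveFinal
import Cfsg.Agent.H54.JFour.SevenFinal
import Cfsg.Agent.H38.JFour.SecondClass
import Cfsg.Agent.H95.J4Bridge.TwoClasses

/-!
The local hypotheses from the group type and the uniqueness of its isomorphism type.
-/

set_option autoImplicit false

namespace Cfsg.Agent.H69.JFourSylow

open Subgroup Cfsg.Agent.H43.JFour Cfsg.Agent.H43.JFour.Ctx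
open scoped Pointwise

universe u

variable {G : Type u} [Group G] [Finite G] [IsSimpleGroup G]

/-- A group of known order: the order 5 and 7 centralisers have order prime to 11. -/
theorem not_dvd_cent {p : ℕ} [Fact p.Prime] {m : ℕ} (hG : Nat.card G = p * m) (hm : ¬ p ∣ m)
    {H : Subgroup G} (hH : p ∣ Nat.card H)
    (hloc : ∀ Q : Subgroup G, Nat.card Q = p → Q ≤ H → ¬ 11 ∣ Nat.card (centralizer (Q : Set G)))
    (q : G) (hq : orderOf q = p) : ¬ 11 ∣ Nat.card (centralizer ({q} : Set G)) := by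
  haveI : Fact (Nat.Prime 11) := ⟨by norm_num⟩
  intro hd
  obtain ⟨⟨r, hrH⟩, hr⟩ := exists_prime_orderOf_dvd_card' (G := H) p hH
  rw [Subgroup.orderOf_mk] at hr
  obtain ⟨g, -, hg⟩ := conj_into (p := p) (k := 1) (m := m) (K := ⊤) (Q := zpowers r) le_top
    (by rw [Subgroup.card_top, pow_one, hG]) hm (by rw [Nat.card_zpowers, hr, pow_one])
    (mem_top q) (n := 1) (by rw [hq, pow_one])
  obtain ⟨⟨w, hwq⟩, hw⟩ := exists_prime_orderOf_dvd_card' (G := centralizer ({q} : Set G)) 11 hd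
  rw [Subgroup.orderOf_mk] at hw
  have hne : g⁻¹ * q * g ≠ 1 := fun e => by
    have h' : orderOf (MulAut.conj g⁻¹ q) = p := by rw [MulEquiv.orderOf_eq, hq]
    rw [MulAut.conj_apply, inv_inv, e, orderOf_one] at h'
    exact (Fact.out : p.Prime).ne_one h'.symm
  have hgen : zpowers (g⁻¹ * q * g) = zpowers r :=
    PGroups.zpowers_eq_of_card_eq (by rw [Nat.card_zpowers, hr]) hg hne
  have hcomm : Commute (g⁻¹ * q * g) (g⁻¹ * w * g) := by
    have := (show Commute w q from mem_centralizer_singleton_iff.1 hwq).symm.map (MulAut.conj g⁻¹)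
    simpa [mul_assoc] using this
  refine hloc (zpowers r) (by rw [Nat.card_zpowers, hr]) (zpowers_le.2 hrH) ?_
  have hmem : g⁻¹ * w * g ∈ centralizer (zpowers r : Set G) := by
    rw [← hgen, mem_centralizer_iff]
    rintro _ ⟨i, rfl⟩
    exact (hcomm.zpow_left i).eq
  have ho : orderOf (g⁻¹ * w * g) = 11 := by
    rw [show g⁻¹ * w * g = MulAut.conj g⁻¹ w by simp, MulEquiv.orderOf_eq, hw]
  exact ho ▸ orderOf_dvd_natCard _ hmem

/-- The local hypotheses. -/
theorem exists_env (hG : ¬ IsMulCommutative G) {z : G} (hJ : Cfsg.IsOfJankoFourTypeAt z)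
    (hiso : Cfsg.Spor.IsoJ4 G) :
    ∃ c : Ctx G (MulAut ↥Spor.M22), c.z = z ∧
      Env c (MulAut.conj : ↥Spor.M22 →* MulAut ↥Spor.M22).range := by
  have hJ' := hJ
  obtain ⟨P, hP⟩ := hJ'
  obtain ⟨c, hz, -, -, hc⟩ := exists_ctx hP
  have hcard : Nat.card G = jOrder := H69.J4U.card_of_iso hiso
  have hH : Nat.card (centralizer ({z} : Set G)) = 3 * 2 ^ 13 * 887040 := by
    rw [← hz, ← H85.AutM22.autData.card]; exact hc.card_H
  refine ⟨c, hz, ⟨hc, H85.AutM22.autData, fun a ha => eleven_aut ha, hcard, hG, ?_, ?_⟩⟩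
  · haveI : Fact (Nat.Prime 5) := ⟨by norm_num⟩
    refine not_dvd_cent (p := 5) (m := 17355114209215512576) (by rw [hcard]; norm_num [jOrder])
      (by norm_num) (H := centralizer ({z} : Set G)) (by rw [hH]; norm_num) fun Q hQ hQz hd => ?_
    have h := (H54.JFour.five_final hG hJ (H38.JFour.second_class_all hG hJ).2 Q hQ hQz).2.2.2
    have := hd.trans (h ▸ card_dvd_of_le (centralizer_le_normalizer (Q : Set G)))
    norm_num at this
  · haveI : Fact (Nat.Prime 7) := ⟨by norm_num⟩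
    refine not_dvd_cent (p := 7) (m := 12396510149439651840) (by rw [hcard]; norm_num [jOrder])
      (by norm_num) (H := centralizer ({z} : Set G)) (by rw [hH]; norm_num) fun Q hQ hQz hd => ?_
    have h := (H54.JFour.seven_final hG hJ Q hQ hQz).2.2.2
    have := hd.trans (h ▸ card_dvd_of_le (centralizer_le_normalizer (Q : Set G)))
    norm_num at this

/-- Everything at an element of order 11 of `C`. -/
theorem exists_setting (hG : ¬ IsMulCommutative G) {z : G} (hJ : Cfsg.IsOfJankoFourTypeAt z)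
    (hiso : Cfsg.Spor.IsoJ4 G) :
    ∃ c : Ctx G (MulAut ↥Spor.M22), ∃ x : G, ∃ U : Sylow 11 G, c.z = z ∧
      Eleven c (MulAut.conj : ↥Spor.M22 →* MulAut ↥Spor.M22).range x U := by
  obtain ⟨c, hz, e⟩ := exists_env hG hJ hiso
  obtain ⟨x, U, s⟩ := e.exists_eleven fun U => sylow_noncomm hiso U
  exact ⟨c, x, U, hz, s⟩

/-- An involution outside the class of `z`. -/
theorem exists_nonz (hG : ¬ IsMulCommutative G) {z : G} (hJ : Cfsg.IsOfJankoFourTypeAt z) :
    ∃ t : G, orderOf t = 2 ∧ ¬ IsConj z t := by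
  obtain ⟨a, b, ha, hb, hab, -⟩ := H95.J4Bridge.two_classes hG hJ
  by_cases h : IsConj z a
  · exact ⟨b, hb, fun h' => hab (h.symm.trans h')⟩
  · exact ⟨a, ha, h⟩

end Cfsg.Agent.H69.JFourSylow
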