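import Cfsg.Agent.H69.JFourSylow.CentY
import Cfsg.Agent.H69.JFourSylow.EnvMk
import Cfsg.Agent.H38.JFour.Setup

/-!
The centraliser orders of the two classes of elements of order 11.
-/

set_option autoImplicit false

namespace Cfsg.Agent.H69.JFourSylow

open Subgroup Cfsg.Agent.H43.JFour Cfsg.Agent.H43.JFour.Ctx
open scoped Pointwise

universe u v

variable {G : Type u} [Group G] [Finite G] {A : Type v} [Group A] {M : Subgroup A} {c : Ctx G A}
variable {x : G} {U : Sylow 11 G}

omit [Finite G] in
theorem card_cent_conj {a b : G} (h : IsConj a b) :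
    Nat.card (centralizer ({a} : Set G)) = Nat.card (centralizer ({b} : Set G)) := by
  obtain ⟨g, hg⟩ := isConj_iff.1 h
  have he : (centralizer ({a} : Set G)).map (MulAut.conj g).toMonoidHom = centralizer ({b} : Set G) := by
    ext y
    constructor
    · rintro ⟨d, hd, rfl⟩
      refine mem_centralizer_singleton_iff.2 ?_
      have := (show Commute d a from mem_centralizer_singleton_iff.1 hd).map (MulAut.conj g)
      rw [MulAut.conj_apply g a, hg] at this
      exact this.eq
    · intro hy
      refine ⟨g⁻¹ * y * g, mem_centralizer_singleton_iff.2 ?_, by simp [mul_assoc]⟩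
      have := (show Commute y b from mem_centralizer_singleton_iff.1 hy).map (MulAut.conj g⁻¹)
      rw [← hg] at this
      simpa [mul_assoc] using this.eq
  rw [← he, Subgroup.card_map_of_injective (f := (MulAut.conj g).toMonoidHom) (MulAut.conj g).injective]

/-- An element of order 11 outside the class of `x` has centraliser of order 242. -/
theorem Eleven.card_cent_other [IsSimpleGroup G] (s : Eleven c M x U) (hG : ¬ IsMulCommutative G)
    (hJ : Cfsg.IsOfJankoFourTypeAt c.z) {v : G} (hv : orderOf v = 11) (hnc : ¬ IsConj x v) :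
    Nat.card (centralizer ({v} : Set G)) = 242 := by
  obtain ⟨t, ht, htz⟩ := exists_nonz hG hJ
  obtain ⟨V, K, hVt, hKt, hnV, hVe, hV, hKV, hsup, ⟨e⟩⟩ :=
    (H38.JFour.second_class_all hG hJ).2 t ht htz
  have hd : 11 ∣ Nat.card (centralizer ({t} : Set G)) := by
    refine dvd_trans ?_ (card_dvd_of_le hKt)
    rw [Nat.card_congr e.toEquiv, H85.AutM22.autData.card]
    norm_num
  obtain ⟨y, hy, hty, hxy, hall⟩ := s.two_classes ht htz hd
  obtain ⟨w, hw, hwZ⟩ := s.exists_noncentral
  have hyw : IsConj y w := (s.conj_x_or hw hwZ hy).resolve_left fun h => hxy h.symm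
  have hxw : ¬ IsConj x w := fun h => hxy (h.trans hyw.symm)
  have hvw : IsConj v w := (s.conj_x_or hw hwZ hv).resolve_left fun h => hnc h.symm
  obtain ⟨g, hg⟩ := isConj_iff.1 hyw
  have ht' : orderOf (g * t * g⁻¹) = 2 := by
    rw [← MulAut.conj_apply, MulEquiv.orderOf_eq, ht]
  have htz' : ¬ IsConj c.z (g * t * g⁻¹) := fun h =>
    htz (h.trans (isConj_iff.2 ⟨g⁻¹, by group⟩))
  have htw : Commute (g * t * g⁻¹) w := by
    have := hty.map (MulAut.conj g)
    rw [← hg]
    simpa using this
  obtain ⟨V', K', hVt', hKt', hnV', hVe', hV', hKV', hsup', ⟨e'⟩⟩ :=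
    (H38.JFour.second_class_all hG hJ).2 _ ht' htz'
  rw [card_cent_conj hvw]
  exact s.card_cent_w hw hwZ hxw ht' htw
    (card_cent_pair_le hKt' hnV' hV' hVe'
      (H38.JFour.exists_complement_eleven hG ⟨c.z, hJ⟩ V' hVe' hV').1 hKV' hsup' e' htw
      (s.ord_eleven hw fun h => hwZ (h ▸ one_mem _)))

end Cfsg.Agent.H69.JFourSylow
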