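import Cfsg.Agent.H54.AutTwentyTwo.Cent

/-!
Centralisers of the elements of order 11 in the automorphism group of the Mathieu group on 22 points.
-/

set_option autoImplicit false
set_option Elab.async false

namespace Cfsg.Agent.H69.JFourSylow

open Cfsg Cfsg.Agent.Golay Cfsg.Agent.H94.M24 Cfsg.Agent.H34.M22Cert Cfsg.Agent.H54.AutTwentyTwo
open scoped Pointwise

/-- An outer element carrying the representative of order 11 to its square. -/
def outEleven : ℕ := 5866230539509993621909246938880087

lemma eleven_facts :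
    (inM24 eltEleven && innB eltEleven && tblEq (powT 11 eltEleven) idTblVal &&
      !tblEq eltEleven idTblVal) = true ∧
    (inM24 outEleven && pairB outEleven &&
      tblEq (tblMul outEleven eltEleven) (tblMul (powT 2 eltEleven) outEleven)) = true := by
  decide +kernel

lemma factorization_eleven : (887040 : ℕ).factorization 11 = 1 := by
  rw [show (887040 : ℕ) = 11 ^ 1 * 80640 by norm_num,
    Nat.factorization_mul (by norm_num) (by norm_num), Nat.factorization_pow]
  simp [(show Nat.Prime 11 by norm_num).factorization, Nat.factorization_eq_zero_of_not_dvd]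

/-- An element of order 11 of the automorphism group generates its centraliser. -/
theorem eleven_aut {a : MulAut ↥Spor.M22} (ha : orderOf a = 11) :
    Subgroup.centralizer ({a} : Set (MulAut ↥Spor.M22)) = Subgroup.zpowers a := by
  haveI : Fact (Nat.Prime 11) := ⟨by norm_num⟩
  haveI : Finite pairGrp := Nat.finite_of_card_ne_zero (by rw [card_pairGrp]; norm_num)
  obtain ⟨h1, h2⟩ := eleven_facts
  simp only [Bool.and_eq_true, Bool.not_eq_true'] at h1 h2
  obtain ⟨⟨⟨hX1, hX2⟩, hX3⟩, hX4⟩ := h1
  obtain ⟨⟨hY1, hY2⟩, hY4⟩ := h2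
  have hv := validT_of_inM24 hX1
  set r : pairGrp := elt eltEleven (M22_le (mem_M22 hX1 hX2)) with hrdef
  set y : pairGrp := elt outEleven (mem_pairGrp hY1 hY2)
  have hr : orderOf r = 11 := orderOf_elt hv _ hX3 hX4
  have hyr : y * r * y⁻¹ = r ^ 2 := by
    rw [mul_inv_eq_iff_eq_mul]
    refine Subtype.ext ?_
    obtain ⟨hv2, hp2⟩ := powT_spec hv 2
    have := tbl_conj (validT_of_inM24 hY1) hv hv2 hY4
    rw [hp2] at this
    exact this
  have hinner : Nat.card ↥(innP ⊓ Subgroup.normalizer (Subgroup.zpowers r : Set pairGrp)) ≤ 55 := by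
    refine le_trans ?_ (H34.TwistCount.card_normalizer_le certEleven.1 (le_of_eq spor_M22_eq)
      (u := ⟨mkPerm eltEleven, mem_M22 hX1 hX2⟩) rfl (by
        rw [← Subgroup.orderOf_coe]
        show orderOf (mkPerm eltEleven) = 11
        rw [← hr, ← Subgroup.orderOf_coe r]
        rfl))
    refine Nat.card_le_card_of_injective
      (fun a => (⟨⟨(a : pairGrp), a.2.1⟩, ?_⟩ : Subgroup.normalizer _)) fun a b e => ?_
    · have hmap : ∀ x : Spor.M22, (⟨x.1, M22_le x.2⟩ : pairGrp) ∈ Subgroup.zpowers r ↔
          x ∈ Subgroup.zpowers (⟨mkPerm eltEleven, mem_M22 hX1 hX2⟩ : Spor.M22) := by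
        intro x
        simp only [Subgroup.mem_zpowers_iff]
        refine exists_congr fun k => ⟨fun h => Subtype.ext ?_, fun h => Subtype.ext ?_⟩
        · have h' := congrArg Subtype.val h; simpa [SubgroupClass.coe_zpow, hrdef, elt] using h'
        · have h' := congrArg Subtype.val h; simpa [SubgroupClass.coe_zpow, hrdef, elt] using h'
      refine Subgroup.mem_normalizer_iff.2 fun x => ?_
      show x ∈ Subgroup.zpowers (⟨mkPerm eltEleven, mem_M22 hX1 hX2⟩ : Spor.M22) ↔ _ ∈
        Subgroup.zpowers (⟨mkPerm eltEleven, mem_M22 hX1 hX2⟩ : Spor.M22)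
      rw [← hmap, ← hmap]
      exact Subgroup.mem_normalizer_iff.1 a.2.2 _
    · exact Subtype.ext (Subtype.ext (congrArg (fun z => ((z : Spor.M22) : Equiv.Perm GolayPt))
        (congrArg Subtype.val e :) :))
  have hC : Nat.card (Subgroup.centralizer ({r} : Set pairGrp)) ≤ 11 := by
    have hle := card_cent_mul_le (r := r) (fun i : Fin 10 => y ^ (i : ℕ))
      (fun i => by rw [pow_conj_pow hyr]; exact Subgroup.pow_mem _ (Subgroup.mem_zpowers r) _)
      (fun i j h => pow_inj_of_mod hr (fun i : Fin 10 => 2 ^ (i : ℕ)) (by decide) i j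
        (by rwa [pow_conj_pow hyr, pow_conj_pow hyr] at h))
    rw [Nat.card_eq_fintype_card (α := Fin 10), Fintype.card_fin] at hle
    have := (card_le_two _ (Subgroup.normalizer (Subgroup.zpowers r : Set pairGrp)) innP_index).trans
      (Nat.mul_le_mul_left 2 hinner)
    omega
  obtain ⟨φ, k, hφ, ⟨l, hl⟩, -⟩ := transport factorization_eleven hr ha
  have hall : ∀ s ∈ Subgroup.centralizer ({r} : Set pairGrp), s ∈ Subgroup.zpowers r := by
    intro s hs
    rw [Subgroup.eq_of_le_of_card_ge (H := Subgroup.zpowers r)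
      (Subgroup.zpowers_le.2 (Subgroup.mem_centralizer_singleton_iff.2 rfl))
      (by rw [Nat.card_zpowers, hr]; exact hC)]
    exact hs
  refine le_antisymm (fun b hb => ?_)
    (Subgroup.zpowers_le.2 (Subgroup.mem_centralizer_singleton_iff.2 rfl))
  obtain ⟨s, rfl⟩ := φ.surjective b
  have hb' := Subgroup.mem_centralizer_singleton_iff.1 hb
  rw [← hφ, ← map_mul, ← map_mul] at hb'
  have hs : s ∈ Subgroup.centralizer ({r} : Set pairGrp) := by
    refine Subgroup.mem_centralizer_singleton_iff.2 ?_
    rw [← hl]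
    exact ((show Commute s (r ^ k) from φ.injective hb').pow_right l).eq
  obtain ⟨i, hi⟩ := Subgroup.mem_zpowers_iff.1 (hall s hs)
  refine Subgroup.mem_zpowers_iff.2 ⟨l * i, ?_⟩
  rw [zpow_mul, zpow_natCast, ← hφ, ← map_pow, hl, ← map_zpow, hi]

end Cfsg.Agent.H69.JFourSylow
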