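import Cfsg.Agent.H69.JFourSylow.Classes

/-!
The Sylow subgroups for the five large primes.
-/

set_option autoImplicit false

namespace Cfsg.Agent.H69.JFourSylow

open Subgroup
open scoped Pointwise

universe u

/-- The large primes. -/
def bigList : List ℕ := [23, 29, 31, 37, 43]

/-- Their product. -/
def bigProd : ℕ := 23 * 29 * 31 * 37 * 43

/-- The index of the centraliser in the normaliser. -/
def expE : ℕ → ℕ
  | 23 => 22
  | 29 => 28
  | 31 => 10
  | 37 => 12
  | 43 => 14
  | _ => 0

/-- The divisors of the product, as sublist products. -/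
def bigDivs : List ℕ := bigList.sublists.map List.prod

theorem big_prime {p : ℕ} (hp : p ∈ bigList) : p.Prime := by
  simp only [bigList, List.mem_cons, List.not_mem_nil, or_false] at hp
  rcases hp with rfl | rfl | rfl | rfl | rfl <;> norm_num

theorem dvd_big {p : ℕ} (hp : p ∈ bigList) : p ∣ bigProd ∧ ¬ p ^ 2 ∣ jOrder ∧ p ∣ jOrder := by
  simp only [bigList, List.mem_cons, List.not_mem_nil, or_false] at hp
  rcases hp with rfl | rfl | rfl | rfl | rfl <;> norm_num [bigProd, jOrder]

theorem mem_bigDivs {n : ℕ} (h : n ∣ bigProd) : n ∈ bigDivs := by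
  have key : ∀ {a q m : ℕ}, q.Prime → m ∣ a * q →
      ∃ b, b ∣ a ∧ (m = b ∨ m = b * q) := by
    intro a q m hq hm
    obtain ⟨b, d, hb, hd, rfl⟩ := Nat.dvd_mul.1 hm
    rcases (Nat.dvd_prime hq).1 hd with rfl | rfl
    · exact ⟨b, hb, Or.inl (mul_one b)⟩
    · exact ⟨b, hb, Or.inr rfl⟩
  obtain ⟨b4, h4, e5⟩ := key (q := 43) (by norm_num) h
  obtain ⟨b3, h3, e4⟩ := key (q := 37) (by norm_num) h4
  obtain ⟨b2, h2, e3⟩ := key (q := 31) (by norm_num) h3
  obtain ⟨b1, h1, e2⟩ := key (q := 29) (by norm_num) h2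
  rcases (Nat.dvd_prime (by norm_num : Nat.Prime 23)).1 h1 with rfl | rfl <;>
    rcases e2 with rfl | rfl <;> rcases e3 with rfl | rfl <;> rcases e4 with rfl | rfl <;>
      rcases e5 with rfl | rfl <;> decide +kernel

theorem mem_big_of_dvd {n q : ℕ} (h : n ∣ bigProd) (hq : q.Prime) (hd : q ∣ n) : q ∈ bigList := by
  have := hd.trans h
  simp only [bigProd, Nat.Prime.dvd_mul hq] at this
  rcases this with (((h | h) | h) | h) | h <;>
    rw [(Nat.prime_dvd_prime_iff_eq hq (by norm_num)).1 h] <;> decide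

/-- The primes whose Sylow subgroups are shown central first. -/
def before : ℕ → List ℕ
  | 23 => [29, 31, 43]
  | 37 => [29, 31, 43]
  | _ => []

/-- The number of Sylow subgroups is `1`. -/
theorem big_count : ∀ q ∈ bigList, ∀ d ∈ bigDivs, ¬ q ∣ d → d % q = 1 →
    (∀ r ∈ before q, ¬ r ∣ d) → d = 1 := by
  decide +kernel

theorem before_mem : ∀ q ∈ bigList, ∀ r ∈ before q, r ∈ bigList ∧ before r = [] := by
  decide +kernel

set_option maxRecDepth 100000 in
/-- The possible centraliser and normaliser orders. -/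
theorem big_solutions : ∀ p ∈ bigList, ∀ n ∈ bigDivs, ∀ e ∈ Nat.divisors (p - 1), p ∣ n →
    (∀ q ∈ bigList, q ∣ n → e ∣ q - 1 ∧ (jOrder / (n * e)) % q = 1) →
      (n = p ∧ e = expE p) ∨ (31 ∣ n ∧ ¬ 5 ∣ e) := by
  decide +kernel

theorem big_no_five : ∀ n ∈ bigDivs, ¬ 5 ∣ n := by decide +kernel

variable {G : Type u} [Group G] [Finite G]

/-- The facts used. -/
structure Big (G : Type u) [Group G] : Prop where
  card : Nat.card G = jOrder
  cent : ∀ q ∈ [2, 3, 5, 7, 11], ∀ p ∈ bigList, ∀ r : G, orderOf r = q →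
    ¬ p ∣ Nat.card (centralizer ({r} : Set G))
  five : ∃ u : G, orderOf u = 31 ∧ 5 ∣ Nat.card (normalizer (zpowers u : Set G))

/-- A group whose order divides the product is commutative. -/
theorem comm_of_dvd {C : Subgroup G} (h : Nat.card C ∣ bigProd) :
    ∀ a ∈ C, ∀ b ∈ C, Commute a b := by
  have hC0 : Nat.card C ≠ 0 := Nat.card_pos.ne'
  have hsq : Squarefree bigProd := by
    have : ∀ q : ℕ, q.Prime → ¬ q * q ∣ bigProd := by
      intro q hq hd
      have hm := mem_big_of_dvd dvd_rfl hq ((dvd_mul_right q q).trans hd)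
      simp only [bigList, List.mem_cons, List.not_mem_nil, or_false] at hm
      rcases hm with rfl | rfl | rfl | rfl | rfl <;> norm_num [bigProd] at hd
    exact Nat.squarefree_iff_prime_squarefree.2 this
  have step : ∀ q : ℕ, q.Prime → q ∣ Nat.card C →
      (∀ r ∈ before q, r ∣ Nat.card C → r ∣ Nat.card (center C)) → q ∣ Nat.card (center C) := by
    intro q hq hd hprev
    haveI : Fact q.Prime := ⟨hq⟩
    have hqb := mem_big_of_dvd h hq hd
    obtain ⟨S⟩ : Nonempty (Sylow q C) := inferInstance
    have hS : Nat.card S = q := by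
      rw [S.card_eq_multiplicity]
      have h1 := hq.factorization_pos_of_dvd hC0 hd
      have h2 : (Nat.card C).factorization q ≤ 1 :=
        (Squarefree.squarefree_of_dvd h hsq).natFactorization_le_one q
      rw [show (Nat.card C).factorization q = 1 by omega, pow_one]
    have huniq : Nat.card (Sylow q C) = 1 := by
      have h1 : Nat.card (Sylow q C) % q = 1 := by
        have : Nat.card (Sylow q C) % q = 1 % q := card_sylow_modEq_one q C
        rwa [Nat.mod_eq_of_lt hq.one_lt] at this
      have h2 : Nat.card (Sylow q C) ∣ bigProd := by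
        rw [Sylow.card_eq_index_normalizer S]
        exact (index_dvd_card _).trans h
      refine big_count q hqb _ (mem_bigDivs h2) (fun hd' => ?_) h1 fun r hr hrd => ?_
      · rw [Nat.mod_eq_zero_of_dvd hd' |> id] at h1
        exact zero_ne_one h1
      · rw [Sylow.card_eq_index_normalizer S] at hrd
        have hrc : r ∣ Nat.card (center C) := hprev r hr (hrd.trans (index_dvd_card _))
        have hcn : Nat.card (center C) ∣ Nat.card (normalizer ((S : Subgroup C) : Set C)) :=
          card_dvd_of_le (center_le_normalizer _)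
        have hrr : r * r ∣ bigProd := ((mul_dvd_mul (hrc.trans hcn) hrd).trans
          (dvd_of_eq (card_mul_index _))).trans h
        exact Nat.squarefree_iff_prime_squarefree.1 hsq r (big_prime (before_mem q hqb r hr).1) hrr
    haveI : Subsingleton (Sylow q C) := (Nat.card_eq_one_iff_unique.1 huniq).1
    haveI hn : (S : Subgroup C).Normal := Sylow.normal_of_subsingleton S
    let f : C →* MulAut (S : Subgroup C) := MulAut.conjNormal
    have hf : ∀ g : C, f g = 1 := by
      intro g
      haveI : IsCyclic (S : Subgroup C) := isCyclic_of_prime_card (p := q) hS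
      have h1 : orderOf (f g) ∣ q - 1 := by
        refine (_root_.orderOf_dvd_natCard (f g)).trans (dvd_of_eq ?_)
        rw [IsCyclic.card_mulAut, hS, Nat.totient_prime hq]
      have h2 : orderOf (f g) ∣ bigProd :=
        ((orderOf_map_dvd f g).trans (_root_.orderOf_dvd_natCard g)).trans h
      by_contra hne
      obtain ⟨r, hr, hrd⟩ := Nat.exists_prime_and_dvd (fun e => hne (orderOf_eq_one_iff.1 e))
      have hrb := mem_big_of_dvd dvd_rfl hr (hrd.trans h2)
      have hcheck : ∀ r ∈ bigList, ∀ q ∈ bigList, ¬ r ∣ q - 1 := by decide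
      exact hcheck r hrb q hqb (hrd.trans h1)
    have hle : (S : Subgroup C) ≤ center C := fun s hs => mem_center_iff.2 fun g => by
      have := congrArg (fun a : MulAut (S : Subgroup C) => ((a ⟨s, hs⟩ : (S : Subgroup C)) : C)) (hf g)
      simp only [f, MulAut.conjNormal_apply, MulAut.one_apply] at this
      exact mul_inv_eq_iff_eq_mul.1 this
    exact hS ▸ card_dvd_of_le hle
  have hdvdcen : ∀ q : ℕ, q.Prime → q ∣ Nat.card C → q ∣ Nat.card (center C) := fun q hq hd =>
    step q hq hd fun r hr hrC => by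
      obtain ⟨hrb, hr0⟩ := before_mem q (mem_big_of_dvd h hq hd) r hr
      exact step r (big_prime hrb) hrC (by rw [hr0]; simp)
  have htop : center C = ⊤ := by
    refine eq_top_of_card_eq _ (Nat.dvd_antisymm (card_subgroup_dvd_card _) ?_)
    refine (Nat.dvd_iff_prime_pow_dvd_dvd _ _).2 fun q k hq hd => ?_
    rcases k with - | k
    · simp
    · have hk : k = 0 := by
        by_contra hk
        have : q * q ∣ bigProd := ((mul_dvd_mul_left q (dvd_pow_self q (by omega : k ≠ 0))).trans
          ((pow_succ' q k).symm.dvd.trans hd)).trans h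
        exact Nat.squarefree_iff_prime_squarefree.1 hsq q hq this
      subst hk
      rw [pow_one] at hd ⊢
      exact hdvdcen q hq hd
  intro a ha b hb
  have := mem_center_iff.1 (htop ▸ mem_top (⟨b, hb⟩ : C)) ⟨a, ha⟩
  exact congrArg Subtype.val this

namespace Big

variable (B : Big G)
include B

theorem cent_dvd {p : ℕ} (hp : p ∈ bigList) {U : Subgroup G} (hU : Nat.card U = p) :
    Nat.card (centralizer (U : Set G)) ∣ bigProd := by
  set C := centralizer (U : Set G) with hC
  have hd : Nat.card C ∣ (2 ^ 21 * 3 ^ 3 * 5 * 7 * 11 ^ 3) * bigProd := by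
    have := card_subgroup_dvd_card C
    rw [B.card] at this
    exact this.trans (dvd_of_eq (by norm_num [jOrder, bigProd]))
  haveI : Fact p.Prime := ⟨big_prime hp⟩
  obtain ⟨⟨u, huU⟩, hu⟩ := exists_prime_orderOf_dvd_card' (G := U) p (dvd_of_eq hU.symm)
  rw [Subgroup.orderOf_mk] at hu
  refine Nat.Coprime.dvd_of_dvd_mul_left ?_ hd
  refine Nat.coprime_of_dvd fun q hq hqC hqs => ?_
  have hmem : q ∈ [2, 3, 5, 7, 11] := by
    simp only [Nat.Prime.dvd_mul hq] at hqs
    rcases hqs with (((h | h) | h) | h) | h <;>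
      first
      | (rw [(Nat.prime_dvd_prime_iff_eq hq (by norm_num)).1 (hq.dvd_of_dvd_pow h)]; decide)
      | (rw [(Nat.prime_dvd_prime_iff_eq hq (by norm_num)).1 h]; decide)
  haveI : Fact q.Prime := ⟨hq⟩
  obtain ⟨⟨r, hrC⟩, hr⟩ := exists_prime_orderOf_dvd_card' (G := C) q hqC
  rw [Subgroup.orderOf_mk] at hr
  exact B.cent q hmem p hp r hr (hu ▸ orderOf_dvd_natCard _
    (mem_centralizer_singleton_iff.2 (mem_centralizer_iff.1 hrC u huU)))

/-- Subgroups of large prime order in a common centraliser. -/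
theorem share {p q : ℕ} (hp : p ∈ bigList) (hq : q ∈ bigList) {U Q : Subgroup G}
    (hU : Nat.card U = p) (hQ : Nat.card Q = q) (hQC : Q ≤ centralizer (U : Set G)) :
    centralizer (Q : Set G) = centralizer (U : Set G) ∧
      normalizer (Q : Set G) = normalizer (U : Set G) := by
  have key : ∀ {p q : ℕ}, p ∈ bigList → q ∈ bigList → ∀ {U Q : Subgroup G}, Nat.card U = p →
      Nat.card Q = q → Q ≤ centralizer (U : Set G) →
      centralizer (U : Set G) ≤ centralizer (Q : Set G) := by
    intro p q hp _ U Q hU _ hQC g hg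
    exact mem_centralizer_iff.2 fun y hy => (comm_of_dvd (B.cent_dvd hp hU) y (hQC hy) g hg).eq
  have hUC : U ≤ centralizer (Q : Set G) := fun u hu =>
    mem_centralizer_iff.2 fun y hy => (mem_centralizer_iff.1 (hQC hy) u hu).symm
  have hC : centralizer (Q : Set G) = centralizer (U : Set G) :=
    le_antisymm (key hq hp hQ hU hUC) (key hp hq hU hQ hQC)
  -- a subgroup of prime order of the centraliser is the only one
  have uniq : ∀ {q : ℕ}, q ∈ bigList → ∀ (Q R : Subgroup G), Nat.card Q = q → Nat.card R = q →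
      R ≤ centralizer (Q : Set G) → R = Q := by
    intro q hq Q R hQ hR hle
    by_contra hne
    have hn : R ≤ normalizer (Q : Set G) := hle.trans (centralizer_le_normalizer _)
    have h := H31.FF.card_sup_mul_card_inf hn
    have hinf : Q ⊓ R = ⊥ := by
      rcases (Nat.dvd_prime (big_prime hq)).1 (hQ ▸ card_dvd_of_le (inf_le_left : Q ⊓ R ≤ Q)) with e | e
      · exact Subgroup.card_eq_one.1 e
      · exfalso
        refine hne ?_
        have e1 : Q ⊓ R = Q := Subgroup.eq_of_le_of_card_ge inf_le_left (by rw [hQ, e])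
        exact (Subgroup.eq_of_le_of_card_ge (e1 ▸ inf_le_right) (by rw [hQ, hR])).symm
    rw [hinf, Subgroup.card_bot, mul_one, hQ, hR] at h
    have := card_subgroup_dvd_card (Q ⊔ R)
    rw [h, B.card, ← pow_two] at this
    exact (dvd_big hq).2.1 this
  have nle : ∀ {p q : ℕ}, p ∈ bigList → q ∈ bigList → ∀ {U Q : Subgroup G}, Nat.card U = p →
      Nat.card Q = q → centralizer (Q : Set G) = centralizer (U : Set G) → U ≤ centralizer (Q : Set G) →
      normalizer (Q : Set G) ≤ normalizer (U : Set G) := by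
    intro p q hp _ U Q hU _ hC hUC n hn
    have h1 : (centralizer (Q : Set G)).map (MulAut.conj n).toMonoidHom ≤ centralizer (Q : Set G) := by
      rintro _ ⟨g, hg, rfl⟩
      refine mem_centralizer_iff.2 fun y hy => ?_
      have hy' : n⁻¹ * y * n⁻¹⁻¹ ∈ Q := (mem_normalizer_iff.1 (inv_mem hn) y).1 hy
      have := (show Commute (n⁻¹ * y * n⁻¹⁻¹) g from mem_centralizer_iff.1 hg _ hy').map (MulAut.conj n)
      simpa [mul_assoc] using this.eq
    refine mem_normalizer_iff_map_conj_eq.2 (uniq hp U _ hU ?_ ?_)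
    · exact (Nat.card_congr (equivMapOfInjective U _ (MulAut.conj n).injective).toEquiv).symm.trans hU
    · rw [← hC]
      exact (Subgroup.map_mono hUC).trans h1
  exact ⟨hC, le_antisymm (nle hp hq hU hQ hC hUC) (nle hq hp hQ hU hC.symm hQC)⟩

/-- The two orders attached to a large prime. -/
theorem solve {p : ℕ} (hp : p ∈ bigList) {U : Subgroup G} (hU : Nat.card U = p) :
    centralizer (U : Set G) = U ∧ Nat.card (normalizer (U : Set G)) = p * expE p := by
  set C := centralizer (U : Set G) with hC
  set N := normalizer (U : Set G) with hN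
  have hpP := big_prime hp
  haveI : Fact p.Prime := ⟨hpP⟩
  haveI : IsCyclic U := isCyclic_of_prime_card (p := p) hU
  have hUC : U ≤ C := fun u hu => mem_centralizer_iff.2 fun v hv =>
    congrArg Subtype.val (IsCyclic.commutative.is_comm.comm (⟨v, hv⟩ : U) ⟨u, hu⟩)
  have hn : Nat.card C ∣ bigProd := B.cent_dvd hp hU
  obtain ⟨e, hep, hNe⟩ : ∃ e, e ∣ p - 1 ∧ Nat.card N = Nat.card C * e := by
    refine ⟨Nat.card U.normalizerMonoidHom.range, ?_, ?_⟩
    · refine (card_subgroup_dvd_card _).trans (dvd_of_eq ?_)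
      rw [IsCyclic.card_mulAut, hU, Nat.totient_prime hpP]
    · have h := U.normalizerMonoidHom.ker.card_eq_card_quotient_mul_card_subgroup
      rw [Nat.card_congr (QuotientGroup.quotientKerEquivRange _).toEquiv, U.normalizerMonoidHom_ker,
        Nat.card_congr (subgroupOfEquivOfLe (centralizer_le_normalizer (U : Set G))).toEquiv,
        mul_comm] at h
      exact h
  have hall : ∀ q ∈ bigList, q ∣ Nat.card C →
      (∃ Q : Subgroup G, Nat.card Q = q ∧ normalizer (Q : Set G) = N) ∧
        e ∣ q - 1 ∧ (jOrder / (Nat.card C * e)) % q = 1 := by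
    intro q hq hd
    haveI : Fact q.Prime := ⟨big_prime hq⟩
    obtain ⟨⟨r, hrC⟩, hr⟩ := exists_prime_orderOf_dvd_card' (G := C) q hd
    rw [Subgroup.orderOf_mk] at hr
    set Q := zpowers r with hQdef
    have hQ : Nat.card Q = q := by rw [hQdef, Nat.card_zpowers, hr]
    obtain ⟨hCQ, hNQ⟩ := B.share hp hq hU hQ (zpowers_le.2 hrC)
    refine ⟨⟨Q, hQ, hNQ⟩, ?_, ?_⟩
    · have hd' : Nat.card Q.normalizerMonoidHom.range ∣ q - 1 := by
        haveI : IsCyclic Q := isCyclic_of_prime_card (p := q) hQ
        refine (card_subgroup_dvd_card _).trans (dvd_of_eq ?_)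
        rw [IsCyclic.card_mulAut, hQ, Nat.totient_prime (big_prime hq)]
      have h := Q.normalizerMonoidHom.ker.card_eq_card_quotient_mul_card_subgroup
      rw [Nat.card_congr (QuotientGroup.quotientKerEquivRange _).toEquiv, Q.normalizerMonoidHom_ker,
        Nat.card_congr (subgroupOfEquivOfLe (centralizer_le_normalizer (Q : Set G))).toEquiv,
        show Nat.card (centralizer (Q : Set G)) = Nat.card C by rw [hCQ],
        show Nat.card (normalizer (Q : Set G)) = Nat.card C * e by rw [hNQ, hNe], mul_comm] at h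
      rwa [← Nat.eq_of_mul_eq_mul_right Nat.card_pos h] at hd'
    · have hmult : (Nat.card G).factorization q = 1 := by
        have h1 := (big_prime hq).factorization_pos_of_dvd Nat.card_pos.ne'
          (B.card ▸ (dvd_big hq).2.2)
        by_contra hne
        exact (dvd_big hq).2.1 (B.card ▸ ((Nat.pow_dvd_pow q
          (show 2 ≤ (Nat.card G).factorization q by omega)).trans (Nat.ordProj_dvd _ _)))
      let S : Sylow q G := Sylow.ofCard Q (by rw [hQ, hmult, pow_one])
      have hs : Nat.card (Sylow q G) % q = 1 := by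
        have : Nat.card (Sylow q G) % q = 1 % q := card_sylow_modEq_one q G
        rwa [Nat.mod_eq_of_lt (big_prime hq).one_lt] at this
      rw [Sylow.card_eq_index_normalizer S] at hs
      change (normalizer (Q : Set G)).index % q = 1 at hs
      rw [hNQ] at hs
      have hci := N.card_mul_index
      rw [hNe, B.card] at hci
      rw [← hci, Nat.mul_div_cancel_left _ (hNe ▸ Nat.card_pos)]
      exact hs
  rcases big_solutions p hp _ (mem_bigDivs hn) e
      (Nat.mem_divisors.2 ⟨hep, Nat.sub_ne_zero_of_lt hpP.one_lt⟩)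
      (hU ▸ card_dvd_of_le hUC) fun q hq hd => (hall q hq hd).2 with ⟨h1, h2⟩ | ⟨h31, h5⟩
  · exact ⟨(Subgroup.eq_of_le_of_card_ge hUC (by rw [h1, hU])).symm, by rw [hNe, h1, h2]⟩
  · exfalso
    obtain ⟨Q, hQ, hNQ⟩ := (hall 31 (by decide) h31).1
    obtain ⟨u, hu, hu5⟩ := B.five
    haveI : Fact (Nat.Prime 31) := ⟨by norm_num⟩
    obtain ⟨⟨r, hrQ⟩, hr⟩ := exists_prime_orderOf_dvd_card' (G := Q) 31 (dvd_of_eq hQ.symm)
    rw [Subgroup.orderOf_mk] at hr
    obtain ⟨g, -, hg⟩ := conj_into (p := 31) (k := 1) (m := 2799211969228308480) (K := ⊤)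
      (Q := zpowers u) le_top (by rw [Subgroup.card_top, B.card]; norm_num [jOrder]) (by norm_num)
      (by rw [Nat.card_zpowers, hu, pow_one]) (mem_top r) (n := 1) (by rw [hr, pow_one])
    have hQu : Q.map (MulAut.conj g⁻¹).toMonoidHom = zpowers u := by
      refine Subgroup.eq_of_le_of_card_ge ?_ (le_of_eq ?_)
      · rintro _ ⟨y, hy, rfl⟩
        have hr1 : r ≠ 1 := fun h => by rw [h, orderOf_one] at hr; omega
        obtain ⟨i, hi⟩ := mem_zpowers_iff.1
          ((PGroups.zpowers_eq_of_card_eq (p := 31) hQ hrQ hr1).ge hy)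
        rw [← hi, map_zpow]
        exact zpow_mem (by simpa [mul_assoc] using hg) i
      · rw [Subgroup.card_map_of_injective (f := (MulAut.conj g⁻¹).toMonoidHom) (MulAut.conj g⁻¹).injective,
          hQ, Nat.card_zpowers, hu]
    have hcardN : Nat.card (normalizer (zpowers u : Set G)) = Nat.card N := by
      rw [← hNQ, ← hQu, ← Subgroup.map_equiv_normalizer_eq Q (MulAut.conj g⁻¹)]
      exact Subgroup.card_map_of_injective (MulAut.conj g⁻¹).injective
    rw [hcardN, hNe] at hu5
    rcases (Nat.Prime.dvd_mul (by norm_num)).1 hu5 with h | h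
    · exact big_no_five _ (mem_bigDivs hn) h
    · exact h5 h

end Big

end Cfsg.Agent.H69.JFourSylow
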