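import Mathlib.LinearAlgebra.Matrix.SpecialLinearGroup
import Mathlib.LinearAlgebra.Matrix.Notation
import Mathlib.Data.ZMod.Basic
import Mathlib.GroupTheory.OrderOfElement
import Mathlib.Tactic

/-!
The normaliser of a Singer cycle in `SL(5,2)` contains an element of order 5.
-/

set_option autoImplicit false

namespace Cfsg.Agent.H69.JFourSylow

open Matrix Subgroup

/-- A Singer cycle. -/
def singer : Matrix (Fin 5) (Fin 5) (ZMod 2) :=
  !![0,0,0,0,1;1,0,0,0,0;0,1,0,0,1;0,0,1,0,0;0,0,0,1,0]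

/-- The squaring map. -/
def frob : Matrix (Fin 5) (Fin 5) (ZMod 2) :=
  !![1,0,0,0,1;0,0,0,1,0;0,1,0,0,1;0,0,0,1,1;0,0,1,0,0]

theorem singer_facts : singer.det = 1 ∧ frob.det = 1 ∧ frob * singer = singer * singer * frob ∧
    singer ^ 31 = 1 ∧ frob ^ 5 = 1 ∧ singer ≠ 1 ∧ frob ≠ 1 := by
  unfold singer frob
  decide +kernel

/-- Elements of order 31 and 5 of `SL(5,2)`, the second squaring the first. -/
theorem exists_singer : ∃ u f : Matrix.SpecialLinearGroup (Fin 5) (ZMod 2),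
    orderOf u = 31 ∧ orderOf f = 5 ∧ f * u * f⁻¹ = u ^ 2 := by
  haveI : Fact (Nat.Prime 31) := ⟨by norm_num⟩
  haveI : Fact (Nat.Prime 5) := ⟨by norm_num⟩
  obtain ⟨hs, hf, hfs, hs31, hf5, hs1, hf1⟩ := singer_facts
  let u : SpecialLinearGroup (Fin 5) (ZMod 2) := ⟨singer, hs⟩
  let f : SpecialLinearGroup (Fin 5) (ZMod 2) := ⟨frob, hf⟩
  refine ⟨u, f, orderOf_eq_prime (Subtype.ext ((SpecialLinearGroup.coe_pow u 31).trans hs31))
    (fun e => hs1 (congrArg Subtype.val e)), orderOf_eq_prime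
    (Subtype.ext ((SpecialLinearGroup.coe_pow f 5).trans hf5))
    (fun e => hf1 (congrArg Subtype.val e)), ?_⟩
  rw [mul_inv_eq_iff_eq_mul, pow_two]
  exact Subtype.ext hfs

end Cfsg.Agent.H69.JFourSylow
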