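import Cfsg.Agent.H69.JFourSylow.CentOther
import Cfsg.Agent.H69.JFourSylow.Large
import Cfsg.Agent.H69.JFourSylow.Singer
import Cfsg.Agent.H85.JTen.Final

/-!
The facts used for the large primes.
-/

set_option autoImplicit false

namespace Cfsg.Agent.H69.JFourSylow

open Subgroup Cfsg.Agent.H43.JFour Cfsg.Agent.H43.JFour.Ctx
open scoped Pointwise

universe u

variable {G : Type u} [Group G] [Finite G]

/-- A conjugate of an element of prime order in a given subgroup. -/
theorem cent_dvd_of_local {q : ℕ} [Fact q.Prime] {m : ℕ} (hG : Nat.card G = q * m) (hm : ¬ q ∣ m)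
    {H : Subgroup G} (hH : q ∣ Nat.card H) {k : ℕ}
    (hloc : ∀ Q : Subgroup G, Nat.card Q = q → Q ≤ H → Nat.card (normalizer (Q : Set G)) = k)
    (r : G) (hr : orderOf r = q) : Nat.card (centralizer ({r} : Set G)) ∣ k := by
  obtain ⟨⟨d, hdH⟩, hd⟩ := exists_prime_orderOf_dvd_card' (G := H) q hH
  rw [Subgroup.orderOf_mk] at hd
  obtain ⟨g, -, hg⟩ := conj_into (p := q) (k := 1) (m := m) (K := ⊤) (Q := zpowers d) le_top
    (by rw [Subgroup.card_top, pow_one, hG]) hm (by rw [Nat.card_zpowers, hd, pow_one])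
    (mem_top r) (n := 1) (by rw [hr, pow_one])
  set r' := g⁻¹ * r * g with hr'
  have hc : IsConj r r' := isConj_iff.2 ⟨g⁻¹, by rw [hr']; group⟩
  have ho : orderOf r' = q := by
    rw [hr', show g⁻¹ * r * g = MulAut.conj g⁻¹ r by simp, MulEquiv.orderOf_eq, hr]
  rw [card_cent_conj hc, ← hloc (zpowers r') (by rw [Nat.card_zpowers, ho])
    (zpowers_le.2 ((zpowers_le.2 hdH : zpowers d ≤ H) hg))]
  refine card_dvd_of_le (le_trans ?_ (centralizer_le_normalizer _))
  intro y hy
  refine mem_centralizer_iff.2 ?_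
  rintro _ ⟨i, rfl⟩
  exact ((show Commute y r' from mem_centralizer_singleton_iff.1 hy).zpow_right i).symm.eq

/-- The order of a semidirect product. -/
theorem card_split {C V K : Subgroup G} (hKn : K ≤ normalizer (V : Set G)) (hKV : K ⊓ V = ⊥)
    (hsup : K ⊔ V = C) : Nat.card C = Nat.card V * Nat.card K := by
  have h := H31.FF.card_sup_mul_card_inf hKn
  rw [inf_comm, hKV, Subgroup.card_bot, mul_one, sup_comm, hsup] at h
  exact h

/-- The centraliser orders are prime to the large primes. -/
theorem not_dvd_small : ∀ n ∈ [3 * 2 ^ 13 * 887040, 2 ^ 11 * 887040, 6 * 443520, 2 ^ 8 * 3 * 5 * 7,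
    2 ^ 3 * 3 ^ 2 * 5 * 7, 24 * 11 ^ 3, 242], ∀ p ∈ bigList, ¬ p ∣ n := by
  decide +kernel

/-- The facts used for the large primes. -/
theorem exists_big [IsSimpleGroup G] (hG : ¬ IsMulCommutative G) {z : G}
    (hJ : Cfsg.IsOfJankoFourTypeAt z) (hiso : Cfsg.Spor.IsoJ4 G) : Big G := by
  obtain ⟨c, x, U, rfl, s⟩ := exists_setting hG hJ hiso
  have hcard := s.env.card
  refine ⟨hcard, ?_, ?_⟩
  · intro q hq p hp r hr hd
    have small : ∀ n : ℕ, Nat.card (centralizer ({r} : Set G)) ∣ n → p ∣ n :=
      fun n hn => hd.trans hn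
    simp only [List.mem_cons, List.not_mem_nil, or_false] at hq
    rcases hq with rfl | rfl | rfl | rfl | rfl
    · -- involutions
      by_cases hz : IsConj c.z r
      · have h := small (3 * 2 ^ 13 * 887040) (dvd_of_eq (by
          rw [← card_cent_conj hz, ← H85.AutM22.autData.card]; exact s.env.ok.card_H))
        exact absurd h (not_dvd_small _ (by simp) p hp)
      · obtain ⟨V, K, -, hKt, hnV, -, hV, hKV, hsup, ⟨e⟩⟩ :=
          (H38.JFour.second_class_all hG hJ).2 r hr hz
        have h := small (2 ^ 11 * 887040) (dvd_of_eq (by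
          rw [card_split (hKt.trans hnV) hKV hsup, hV, Nat.card_congr e.toEquiv,
            H85.AutM22.autData.card]))
        exact absurd h (not_dvd_small _ (by simp) p hp)
    · -- order three
      haveI : Fact (Nat.Prime 3) := ⟨Nat.prime_three⟩
      obtain ⟨a, ha, ha1⟩ := s.env.ok.exists_p
      have ha3 : orderOf a = 3 := ((Nat.dvd_prime Nat.prime_three).1
        (s.env.ok.cardP ▸ orderOf_dvd_natCard c.P ha)).resolve_left fun h => ha1 (orderOf_eq_one_iff.1 h)
      have h := small (6 * 443520) (dvd_of_eq (by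
        rw [card_cent_conj (s.env.ok.one_class s.env.data hG hr ha3), ← s.env.ok.card_C s.env.data,
          ← s.env.ok.cent_P s.env.data hG]
        have hgen : zpowers a = c.P := PGroups.zpowers_eq_of_card_eq (p := 3) s.env.ok.cardP ha ha1
        refine congrArg (fun S : Subgroup G => Nat.card S) ?_
        refine le_antisymm (fun y hy => mem_centralizer_iff.2 fun b hb => ?_)
          (centralizer_le (Set.singleton_subset_iff.2 ha))
        rw [← hgen] at hb
        obtain ⟨i, rfl⟩ := mem_zpowers_iff.1 hb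
        exact ((show Commute y a from mem_centralizer_singleton_iff.1 hy).zpow_right i).symm.eq))
      exact absurd h (not_dvd_small _ (by simp) p hp)
    · -- order five
      haveI : Fact (Nat.Prime 5) := ⟨by norm_num⟩
      have h := small (2 ^ 8 * 3 * 5 * 7) (cent_dvd_of_local (q := 5) (m := 17355114209215512576)
        (by rw [hcard]; norm_num [jOrder]) (by norm_num) (H := c.H)
        (by rw [s.env.ok.card_H, H85.AutM22.autData.card]; norm_num)
        (fun Q hQ hQz => (H54.JFour.five_final hG hJ (H38.JFour.second_class_all hG hJ).2 Q hQ hQz).2.2.2)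
        r hr)
      exact absurd h (not_dvd_small _ (by simp) p hp)
    · -- order seven
      haveI : Fact (Nat.Prime 7) := ⟨by norm_num⟩
      have h := small (2 ^ 3 * 3 ^ 2 * 5 * 7) (cent_dvd_of_local (q := 7) (m := 12396510149439651840)
        (by rw [hcard]; norm_num [jOrder]) (by norm_num) (H := c.H)
        (by rw [s.env.ok.card_H, H85.AutM22.autData.card]; norm_num)
        (fun Q hQ hQz => (H54.JFour.seven_final hG hJ Q hQ hQz).2.2.2) r hr)
      exact absurd h (not_dvd_small _ (by simp) p hp)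
    · -- order eleven
      by_cases hx : IsConj x r
      · have h := small (24 * 11 ^ 3) (dvd_of_eq (by rw [← card_cent_conj hx, s.card_cent]))
        exact absurd h (not_dvd_small _ (by simp) p hp)
      · have h := small 242 (dvd_of_eq (s.card_cent_other hG hJ hr hx))
        exact absurd h (not_dvd_small _ (by simp) p hp)
  · obtain ⟨A, hA, hA10, hAA⟩ := (H85.JTen.two_ten hG ⟨c.z, hJ⟩).1
    obtain ⟨⟨B, -, -, -, ⟨e⟩⟩, -⟩ := (H85.JTen.two_ten hG ⟨c.z, hJ⟩).2.2 A hA hA10 hAA
    obtain ⟨u, f, hu, hf, hfu⟩ := exists_singer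
    let ψ : Matrix.SpecialLinearGroup (Fin 5) (ZMod 2) →* G := B.subtype.comp e.symm.toMonoidHom
    have hψ : Function.Injective ψ := fun a b h => e.symm.injective (Subtype.ext h)
    refine ⟨ψ u, by rw [orderOf_injective ψ hψ, hu], ?_⟩
    have hmem : ψ f ∈ normalizer (zpowers (ψ u) : Set G) := by
      refine mem_normalizer_iff_map_conj_eq.2 (Subgroup.eq_of_le_of_card_ge ?_
        (le_of_eq (Nat.card_congr (equivMapOfInjective (zpowers (ψ u)) _
          (MulAut.conj (ψ f)).injective).toEquiv)))
      rintro _ ⟨y, hy, rfl⟩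
      obtain ⟨i, rfl⟩ := mem_zpowers_iff.1 hy
      rw [map_zpow]
      refine zpow_mem ?_ i
      show ψ f * ψ u * (ψ f)⁻¹ ∈ _
      rw [← map_inv, ← map_mul, ← map_mul, hfu, map_pow]
      exact pow_mem (mem_zpowers _) 2
    have := orderOf_dvd_natCard (normalizer (zpowers (ψ u) : Set G)) hmem
    rwa [orderOf_injective ψ hψ, hf] at this

end Cfsg.Agent.H69.JFourSylow
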