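import Cfsg.Agent.H69.JFourSylow.AutEleven
import Cfsg.Agent.H54.JFour.Space
import Cfsg.Agent.H85.JFour.AutM22.Main
import Cfsg.Agent.H31.FFPlane
import Cfsg.Agent.H69.JFourSylow.Cent
import Cfsg.Prelude.Def_TwoFusion

/-!
The centraliser of an element of order 11 in the centraliser of an involution outside the first class.
-/

set_option autoImplicit false

namespace Cfsg.Agent.H69.JFourSylow

open Subgroup
open scoped Pointwise

universe u

variable {G : Type u} [Group G] [Finite G]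

/-- The part of the centraliser of `t` centralising an element of order 11. -/
theorem card_cent_pair_le {t v : G} {V K : Subgroup G} (hKt : K ≤ centralizer ({t} : Set G))
    (hnV : centralizer ({t} : Set G) ≤ normalizer (V : Set G))
    (hV : Nat.card V = 2 ^ 11) (hVe : Cfsg.IsElementaryAbelian 2 V) (hself : centralizer (V : Set G) ≤ V)
    (hKV : K ⊓ V = ⊥) (hsup : K ⊔ V = centralizer ({t} : Set G))
    (e : K ≃* MulAut ↥Cfsg.Spor.M22) (htv : Commute t v) (hv : orderOf v = 11) :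
    Nat.card ↥(centralizer ({t} : Set G) ⊓ centralizer ({v} : Set G)) ≤ 22 := by
  haveI : Fact (Nat.Prime 11) := ⟨by norm_num⟩
  set C := centralizer ({t} : Set G) with hC
  have hvC : v ∈ C := mem_centralizer_singleton_iff.2 htv.symm.eq
  have hKn : K ≤ normalizer (V : Set G) := hKt.trans hnV
  haveI hn : (V.subgroupOf C).Normal :=
    (normal_subgroupOf_iff_le_normalizer (hsup ▸ le_sup_right)).2 hnV
  set f : C →* C ⧸ V.subgroupOf C := QuotientGroup.mk' _ with hf
  have hfker : ∀ (a b : C), f a = f b ↔ (a : G)⁻¹ * b ∈ V := fun a b => by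
    rw [hf, QuotientGroup.mk'_apply, QuotientGroup.mk'_apply, QuotientGroup.eq, mem_subgroupOf]
    rfl
  -- decompositions
  have hdec : ∀ h : C, ∃ k : K, f h = f ⟨k, hKt k.2⟩ := by
    intro h
    have hh : (h : G) ∈ V ⊔ K := by rw [sup_comm, hsup]; exact h.2
    obtain ⟨w, hw, k, hk, e'⟩ := H43.JFour.exists_mul_of_mem_sup hKn hh
    refine ⟨⟨k, hk⟩, (hfker _ _).2 ?_⟩
    show (h : G)⁻¹ * k ∈ V
    rw [e', mul_inv_rev]
    exact (mem_normalizer_iff.1 (inv_mem (hKn hk)) w⁻¹).1 (inv_mem hw) |> fun h => by simpa using h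
  have hKinj : ∀ a b : K, f ⟨a, hKt a.2⟩ = f ⟨b, hKt b.2⟩ → a = b := by
    intro a b h
    have h1 : (a : G)⁻¹ * b ∈ K ⊓ V :=
      mem_inf.2 ⟨mul_mem (inv_mem a.2) b.2, (hfker _ _).1 h⟩
    rw [hKV, mem_bot] at h1
    exact Subtype.ext (inv_mul_eq_one.1 h1)
  obtain ⟨k0, hk0⟩ := hdec ⟨v, hvC⟩
  have hvV : v ∉ V := fun h => by
    have := orderOf_dvd_natCard V h
    rw [hv, hV] at this
    norm_num at this
  have hko : orderOf k0 = 11 := by
    refine orderOf_eq_prime (hKinj _ _ ?_) fun h => hvV ?_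
    · have : f (⟨v, hvC⟩ ^ 11) = f (⟨(k0 : G), hKt k0.2⟩ ^ 11) := by rw [map_pow, map_pow, hk0]
      rw [show (⟨v, hvC⟩ : C) ^ 11 = 1 from Subtype.ext (by
        show v ^ 11 = 1
        rw [← hv, pow_orderOf_eq_one])] at this
      exact this.symm.trans rfl
    · have h1 := (hfker _ _).1 (hk0.trans (congrArg f (show (⟨(k0 : G), hKt k0.2⟩ : C) = 1 from
        Subtype.ext (show (k0 : G) = 1 by rw [h]; rfl))))
      show v ∈ V
      rw [show v = (v⁻¹ * 1)⁻¹ by group]
      exact inv_mem h1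
  have hke : orderOf (e k0) = 11 := by rw [MulEquiv.orderOf_eq, hko]
  set S := C ⊓ centralizer ({v} : Set G) with hS
  have hle : S ≤ (V ⊓ centralizer ({v} : Set G)) ⊔ zpowers v := by
    intro h hh
    obtain ⟨hhC, hhv⟩ := mem_inf.1 hh
    obtain ⟨k, hk⟩ := hdec ⟨h, hhC⟩
    have hcomm : k * k0 = k0 * k := by
      refine hKinj _ _ ?_
      have h1 : f ⟨h, hhC⟩ * f ⟨v, hvC⟩ = f ⟨v, hvC⟩ * f ⟨h, hhC⟩ := by
        rw [← map_mul, ← map_mul]
        exact congrArg f (Subtype.ext (mem_centralizer_singleton_iff.1 hhv))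
      rw [hk, hk0, ← map_mul, ← map_mul] at h1
      exact h1
    have hm : e k ∈ centralizer ({e k0} : Set _) :=
      mem_centralizer_singleton_iff.2 (by rw [← map_mul, ← map_mul, hcomm])
    rw [eleven_aut hke] at hm
    obtain ⟨i, hi⟩ := mem_zpowers_iff.1 hm
    rw [← map_zpow] at hi
    have hki : k = k0 ^ i := (e.injective hi).symm
    have h2 : f ⟨h, hhC⟩ = f (⟨v, hvC⟩ ^ i) := by
      rw [hk, hki, map_zpow, hk0, ← map_zpow]
      exact congrArg f (Subtype.ext (by simp))
    have h3 : (v ^ i)⁻¹ * h ∈ V := by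
      have := (hfker _ _).1 h2.symm
      simpa using this
    have h4 : (v ^ i)⁻¹ * h ∈ centralizer ({v} : Set G) :=
      mul_mem (inv_mem (zpow_mem (mem_centralizer_singleton_iff.2 rfl) i)) hhv
    rw [show h = v ^ i * ((v ^ i)⁻¹ * h) by group]
    exact mul_mem (mem_sup_right (zpow_mem (mem_zpowers v) i)) (mem_sup_left (mem_inf.2 ⟨h3, h4⟩))
  -- the fixed points
  have hfix : Nat.card ↥(V ⊓ centralizer ({v} : Set G)) = 2 := by
    have hvn : v ∈ normalizer (V : Set G) := hnV hvC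
    let φ : V → V := fun b => ⟨v * b * v⁻¹, (mem_normalizer_iff.1 hvn b).1 b.2⟩
    have hit : ∀ n : ℕ, ∀ b : V, ((φ^[n] b : V) : G) = v ^ n * b * (v ^ n)⁻¹ := by
      intro n
      induction n with
      | zero => simp
      | succ n ih =>
        intro b
        rw [Function.iterate_succ_apply']
        show v * (φ^[n] b : V) * v⁻¹ = _
        rw [ih b, pow_succ']; group
    have h11 : φ^[11] = id := funext fun b => Subtype.ext (by
      rw [hit, ← hv, pow_orderOf_eq_one]; simp)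
    have hm := H54.JFour.card_mod_fixed φ h11
    have hfx : Nat.card {b : V // φ b = b} = Nat.card ↥(V ⊓ centralizer ({v} : Set G)) := Nat.card_congr
      { toFun := fun b => ⟨b.1, mem_inf.2 ⟨b.1.2, mem_centralizer_singleton_iff.2
          (mul_inv_eq_iff_eq_mul.1 (congrArg Subtype.val b.2)).symm⟩⟩
        invFun := fun b => ⟨⟨b, (mem_inf.1 b.2).1⟩, Subtype.ext (mul_inv_eq_iff_eq_mul.2
          (mem_centralizer_singleton_iff.1 (mem_inf.1 b.2).2).symm)⟩
        left_inv := fun b => rfl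
        right_inv := fun b => rfl }
    rw [hfx, hV] at hm
    obtain ⟨k, hk11, hk⟩ := (Nat.dvd_prime_pow Nat.prime_two).1
      (hV ▸ card_dvd_of_le (inf_le_left : V ⊓ centralizer ({v} : Set G) ≤ V))
    rw [hk] at hm ⊢
    have hall : ∀ j < 12, (2 ^ 11 : ℕ) % 11 = 2 ^ j % 11 → j = 1 ∨ j = 11 := by decide +kernel
    rcases hall k (by omega) hm with rfl | rfl
    · rfl
    · exfalso
      have hVv : V ⊓ centralizer ({v} : Set G) = V :=
        Subgroup.eq_of_le_of_card_ge inf_le_left (by rw [hV, hk])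
      refine hvV (hself (mem_centralizer_iff.2 fun b hb => ?_))
      exact mem_centralizer_singleton_iff.1 (mem_inf.1 (hVv.ge hb)).2
  have hcs := H31.FF.card_sup_mul_card_inf
    (show zpowers v ≤ normalizer ((V ⊓ centralizer ({v} : Set G) : Subgroup G) : Set G) from
      le_norm_of_commute fun b hb => mem_centralizer_singleton_iff.1 (mem_inf.1 hb).2)
  rw [hfix, Nat.card_zpowers, hv] at hcs
  refine (Nat.le_of_dvd Nat.card_pos (card_dvd_of_le hle)).trans ?_
  calc Nat.card ↥((V ⊓ centralizer ({v} : Set G)) ⊔ zpowers v)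
      ≤ Nat.card ↥((V ⊓ centralizer ({v} : Set G)) ⊔ zpowers v) *
        Nat.card ↥((V ⊓ centralizer ({v} : Set G)) ⊓ zpowers v) := Nat.le_mul_of_pos_right _ Nat.card_pos
    _ = 22 := hcs

end Cfsg.Agent.H69.JFourSylow
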