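import Cfsg.Agent.H69.JFourSylow.Classes
import Cfsg.Agent.H69.JFourSylow.CentT
import Mathlib.GroupTheory.Transfer
import Mathlib.GroupTheory.FixedPointFree

/-!
The centraliser of a non-central element of order 11 has order 242.
-/

set_option autoImplicit false

namespace Cfsg.Agent.H69.JFourSylow

open Subgroup Cfsg.Agent.H43.JFour Cfsg.Agent.H43.JFour.Ctx
open scoped Pointwise

universe u v

section Odd

variable {K : Type u} [Group K] [Finite K]

/-- A normal subgroup inverted by an involution modulo a central subgroup: elements of order prime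
to that subgroup are central in it. -/
theorem commute_of_fixed {O : Subgroup K} [O.Normal] (hodd : Odd (Nat.card O)) {t v : K}
    (ht : t * t = 1) (hv : ∀ g : K, Commute g v) (hvO : v ∈ O)
    (hfix : ∀ a ∈ O, Commute t a → a ∈ zpowers v) {q : ℕ} (hq : (orderOf v).Coprime q)
    {a b : K} (ha : a ∈ O) (hb : b ∈ O) (haq : a ^ q = 1) : Commute a b := by
  have hvc : ∀ g k : K, k ∈ zpowers v → Commute g k := by
    rintro g _ ⟨i, rfl⟩
    exact (hv g).zpow_right i
  haveI : ((zpowers v).subgroupOf O).Normal := by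
    refine ⟨fun n hn g => ?_⟩
    rw [mem_subgroupOf] at hn ⊢
    show (g : K) * n * (g : K)⁻¹ ∈ zpowers v
    rw [(hvc (g : K) _ hn).eq, mul_inv_cancel_right]
    exact hn
  let c : O →* O := ((MulAut.conj t).toMonoidHom.comp O.subtype).codRestrict O fun o =>
    (‹O.Normal›).conj_mem o o.2 t
  have hc : ∀ o : O, (c o : K) = t * o * t⁻¹ := fun o => rfl
  have hle : (zpowers v).subgroupOf O ≤ ((zpowers v).subgroupOf O).comap c := by
    intro o ho
    rw [mem_comap, mem_subgroupOf, hc, ← (show Commute (o : K) t from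
      ((hvc t (o : K) (mem_subgroupOf.1 ho))).symm).eq, mul_inv_cancel_right]
    exact mem_subgroupOf.1 ho
  let φ := QuotientGroup.map ((zpowers v).subgroupOf O) ((zpowers v).subgroupOf O) c hle
  have htt : t⁻¹ = t := inv_eq_of_mul_eq_one_left ht
  have hinv : Function.Involutive φ := by
    intro w
    induction w using QuotientGroup.induction_on with | _ o => ?_
    show ((c (c o) : O) : O ⧸ (zpowers v).subgroupOf O) = _
    congr 1
    refine Subtype.ext ?_
    rw [hc, hc, htt, show t * (t * (o : K) * t) * t = (t * t) * o * (t * t) by group, ht, one_mul,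
      mul_one]
  have hfpf : MonoidHom.FixedPointFree φ := by
    intro w hw
    induction w using QuotientGroup.induction_on with | _ o => ?_
    have hw' : ((c o : O) : O ⧸ (zpowers v).subgroupOf O) = (o : O) := hw
    rw [QuotientGroup.eq, mem_subgroupOf] at hw'
    refine (QuotientGroup.eq_one_iff o).2 (mem_subgroupOf.2 (hfix _ o.2 ?_))
    set k := ((c o)⁻¹ * o : O) with hk
    have hkc : ∀ g : K, Commute g (k : K) := fun g => hvc g _ hw'
    have h1 : t * (o : K) * t = o * (k : K)⁻¹ := by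
      have e0 : (k : K) = (t * o * t⁻¹)⁻¹ * o := rfl
      rw [e0, htt]; group
    have h2 : (o : K) = o * ((k : K)⁻¹ * (k : K)⁻¹) :=
      calc (o : K) = (t * t) * o * (t * t) := by rw [ht, one_mul, mul_one]
        _ = t * (t * o * t) * t := by group
        _ = t * (o * (k : K)⁻¹) * t := by rw [h1]
        _ = t * o * ((k : K)⁻¹ * t) := by group
        _ = (t * o * t) * (k : K)⁻¹ := by rw [← ((hkc t).inv_right).eq]; group
        _ = o * ((k : K)⁻¹ * (k : K)⁻¹) := by rw [h1, mul_assoc]
    have hk2 : (k : K) * k = 1 := by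
      have := left_eq_mul.1 h2
      rw [← mul_inv_rev, inv_eq_one] at this
      exact this
    have hk1 : (k : K) = 1 := by
      have hd : orderOf (k : K) ∣ Nat.card O := orderOf_dvd_natCard O k.2
      have h2' : orderOf (k : K) ∣ 2 := orderOf_dvd_of_pow_eq_one (by rw [pow_two]; exact hk2)
      rcases (Nat.dvd_prime Nat.prime_two).1 h2' with h | h
      · exact orderOf_eq_one_iff.1 h
      · rw [h] at hd
        exact absurd (hodd.of_dvd_nat hd) (by decide)
    rw [hk1, inv_one, mul_one] at h1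
    show t * o = o * t
    calc t * (o : K) = t * o * (t * t) := by rw [ht, mul_one]
      _ = t * o * t * t := by group
      _ = o * t := by rw [h1]
  have hab := hfpf.commute_all_of_involutive hinv ((⟨a, ha⟩ : O) : O ⧸ _) ((⟨b, hb⟩ : O) : O ⧸ _)
  have hmem : (⟨a, ha⟩ * ⟨b, hb⟩ : O)⁻¹ * (⟨b, hb⟩ * ⟨a, ha⟩) ∈ (zpowers v).subgroupOf O :=
    QuotientGroup.eq.1 hab.eq
  rw [mem_subgroupOf] at hmem
  set k := (a * b)⁻¹ * (b * a) with hk
  have hkm : k ∈ zpowers v := hmem
  have hba : b * a * b⁻¹ = a * k := by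
    have e1 : a * b * k = b * a := by rw [hk, mul_inv_cancel_left]
    rw [← e1, mul_assoc a b k, (hvc b k hkm).eq]; group
  have hpow : (b * a * b⁻¹) ^ q = 1 := by rw [conj_pow, haq]; group
  rw [hba, (hvc a k hkm).mul_pow, haq, one_mul] at hpow
  have hk1 : k = 1 := orderOf_eq_one_iff.1 (Nat.eq_one_of_dvd_coprimes hq
    (orderOf_dvd_of_mem_zpowers hkm) (orderOf_dvd_of_pow_eq_one hpow))
  rw [hk1, mul_one, mul_inv_eq_iff_eq_mul] at hba
  exact hba.symm

end Odd

variable {G : Type u} [Group G] [Finite G] {A : Type v} [Group A] {M : Subgroup A} {c : Ctx G A}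

namespace Eleven

variable {x : G} {U : Sylow 11 G} (s : Eleven c M x U)
include s

/-- The centraliser of a non-central element of `U` centralised by an involution. -/
theorem card_cent_w [IsSimpleGroup G] {w : G} (hw : w ∈ (U : Subgroup G)) (hwZ : w ∉ zpowers x)
    (hnc : ¬ IsConj x w) {t : G} (ht : orderOf t = 2) (htw : Commute t w)
    (hle : Nat.card ↥(centralizer ({t} : Set G) ⊓ centralizer ({w} : Set G)) ≤ 22) :
    Nat.card (centralizer ({w} : Set G)) = 242 := by
  haveI : Fact (Nat.Prime 2) := ⟨Nat.prime_two⟩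
  haveI : Fact (Nat.Prime 11) := ⟨by norm_num⟩
  have hw11 := s.ord_eleven hw fun e => hwZ (e ▸ one_mem _)
  set Y := centralizer ({w} : Set G) with hY
  set T := centralizer ({t} : Set G) ⊓ Y with hT
  have htY : t ∈ Y := mem_centralizer_singleton_iff.2 htw.eq
  have htT : t ∈ T := mem_inf.2 ⟨mem_centralizer_singleton_iff.2 rfl, htY⟩
  have hwT : w ∈ T := mem_inf.2 ⟨mem_centralizer_singleton_iff.2 htw.symm.eq, mem_centralizer_singleton_iff.2 rfl⟩
  have hT22 : Nat.card T = 22 := by
    have h2 : 2 ∣ Nat.card T := ht ▸ orderOf_dvd_natCard T htT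
    have h11 : 11 ∣ Nat.card T := hw11 ▸ orderOf_dvd_natCard T hwT
    have := Nat.le_of_dvd Nat.card_pos
      (Nat.Coprime.mul_dvd_of_dvd_of_dvd (by decide : Nat.Coprime 2 11) h2 h11)
    omega
  have h4 : ¬ 2 ^ 2 ∣ Nat.card Y := by
    intro hd
    obtain ⟨R, hR, htR⟩ := Sylow.exists_subgroup_card_pow_succ (p := 2) (n := 1) hd
      (H := zpowers (⟨t, htY⟩ : Y)) (by rw [Nat.card_zpowers, Subgroup.orderOf_mk, ht, pow_one])
    have hab := IsPGroup.commutative_of_card_eq_prime_sq hR
    have hle4 : R.map Y.subtype ≤ T := by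
      rintro _ ⟨r, hr, rfl⟩
      refine mem_inf.2 ⟨mem_centralizer_singleton_iff.2 ?_, r.2⟩
      exact congrArg (fun z : R => ((z : Y) : G)) (hab ⟨r, hr⟩ ⟨⟨t, htY⟩, htR (mem_zpowers _)⟩)
    have := card_dvd_of_le hle4
    rw [Subgroup.card_map_of_injective (Subgroup.subtype_injective _), hR, hT22] at this
    norm_num at this
  have h2Y : 2 ∣ Nat.card Y := ht ▸ orderOf_dvd_natCard Y htY
  have hmul : (Nat.card Y).factorization 2 = 1 := by
    have h1 := Nat.prime_two.factorization_pos_of_dvd Nat.card_pos.ne' h2Y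
    by_contra hne
    exact h4 ((Nat.pow_dvd_pow 2 (show 2 ≤ (Nat.card Y).factorization 2 by omega)).trans
      (Nat.ordProj_dvd _ _))
  let S : Sylow 2 Y := Sylow.ofCard (zpowers (⟨t, htY⟩ : Y))
    (by rw [Nat.card_zpowers, Subgroup.orderOf_mk, ht, hmul, pow_one])
  have hS : ((S : Sylow 2 Y) : Subgroup Y) = zpowers (⟨t, htY⟩ : Y) := rfl
  haveI : IsMulCommutative (S : Subgroup Y) := by rw [hS]; infer_instance
  have hP : normalizer ((S : Subgroup Y) : Set Y) ≤ centralizer ((S : Subgroup Y) : Set Y) := by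
    intro g hg
    refine mem_centralizer_iff.2 fun b hb => ?_
    have hcard : Nat.card (S : Subgroup Y) = 2 := by
      rw [hS, Nat.card_zpowers, Subgroup.orderOf_mk, ht]
    by_cases hb1 : b = 1
    · rw [hb1, one_mul, mul_one]
    have hgb := (mem_normalizer_iff.1 hg b).1 hb
    obtain ⟨a, hane, hall⟩ : ∃ a : (S : Subgroup Y), a ≠ 1 ∧ ∀ d : (S : Subgroup Y), d ≠ 1 → d = a := by
      obtain ⟨a, ha, huniq⟩ := (Nat.card_eq_two_iff' (1 : (S : Subgroup Y))).1 hcard
      exact ⟨a, ha, huniq⟩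
    have e1 := hall ⟨b, hb⟩ fun h => hb1 (congrArg Subtype.val h)
    have e2 := hall ⟨g * b * g⁻¹, hgb⟩ fun h => hb1 (conj_eq_one_iff.1 (congrArg Subtype.val h))
    have : g * b * g⁻¹ = b := congrArg Subtype.val (e2.trans e1.symm)
    exact (mul_inv_eq_iff_eq_mul.1 this).symm
  set O := (MonoidHom.transferSylow S hP).ker with hO
  have hcompl : IsComplement' O (S : Subgroup Y) := MonoidHom.ker_transferSylow_isComplement' S hP
  have hYO : Nat.card Y = Nat.card O * 2 := by
    rw [← hcompl.card_mul, hS, Nat.card_zpowers, Subgroup.orderOf_mk, ht]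
  have hOodd : Odd (Nat.card O) := by
    rw [← Nat.not_even_iff_odd, even_iff_two_dvd]
    exact MonoidHom.not_dvd_card_ker_transferSylow S hP
  have hOmem : ∀ g : Y, Odd (orderOf g) → g ∈ O := by
    intro g hg
    rw [hO, MonoidHom.mem_ker]
    have h1 : orderOf (MonoidHom.transferSylow S hP g) ∣ orderOf g := orderOf_map_dvd _ _
    have h2 : orderOf (MonoidHom.transferSylow S hP g) ∣ 2 := by
      refine (_root_.orderOf_dvd_natCard _).trans (dvd_of_eq ?_)
      rw [hS, Nat.card_zpowers, Subgroup.orderOf_mk, ht]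
    rcases (Nat.dvd_prime Nat.prime_two).1 h2 with h | h
    · exact orderOf_eq_one_iff.1 h
    · rw [h] at h1; exact absurd (hg.of_dvd_nat h1) (by decide)
  set v : Y := ⟨w, mem_centralizer_singleton_iff.2 rfl⟩ with hvdef
  have hv11 : orderOf v = 11 := by rw [hvdef, Subgroup.orderOf_mk, hw11]
  have hvO : v ∈ O := hOmem v (by rw [hv11]; decide)
  have hxY : x ∈ Y := mem_centralizer_singleton_iff.2
    (mem_centralizer_singleton_iff.1 (s.le_cent hw)).symm
  have hxO : (⟨x, hxY⟩ : Y) ∈ O := hOmem _ (by rw [Subgroup.orderOf_mk, s.x_ord]; decide)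
  have hfix : ∀ a ∈ O, Commute (⟨t, htY⟩ : Y) a → a ∈ zpowers v := by
    intro a ha hca
    have haT : (a : G) ∈ T := mem_inf.2
      ⟨mem_centralizer_singleton_iff.2 (congrArg Subtype.val hca.eq).symm, a.2⟩
    have h22 : orderOf (a : G) ∣ 22 := hT22 ▸ orderOf_dvd_natCard T haT
    have hodd : Odd (orderOf (a : G)) := by
      rw [Subgroup.orderOf_coe]; exact hOodd.of_dvd_nat (orderOf_dvd_natCard O ha)
    have h11 : orderOf (a : G) ∣ 11 := by
      have hcop : (orderOf (a : G)).Coprime 2 := (Nat.coprime_two_right).2 hodd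
      exact hcop.dvd_of_dvd_mul_left (show orderOf (a : G) ∣ 2 * 11 from h22)
    by_contra hne
    set R := zpowers (a : G) ⊔ zpowers w with hR
    have hRT : R ≤ T := sup_le (zpowers_le.2 haT) (zpowers_le.2 hwT)
    have haw : Commute w (a : G) := (mem_centralizer_singleton_iff.1 a.2).symm
    have hn : zpowers w ≤ normalizer (zpowers (a : G) : Set G) := le_norm_of_commute fun b hb => by
      obtain ⟨i, rfl⟩ := mem_zpowers_iff.1 hb
      exact haw.symm.zpow_left i
    have ha11 : orderOf (a : G) = 11 := ((Nat.dvd_prime (by norm_num)).1 h11).resolve_left fun h =>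
      hne (by rw [orderOf_eq_one_iff, OneMemClass.coe_eq_one] at h; rw [h]; exact one_mem _)
    have h := H31.FF.card_sup_mul_card_inf hn
    have hinf : zpowers (a : G) ⊓ zpowers w = ⊥ := by
      refine (Subgroup.eq_bot_iff_forall _).2 fun b hb => ?_
      by_contra hb1
      obtain ⟨hba, hbw⟩ := mem_inf.1 hb
      have e1 := PGroups.zpowers_eq_of_card_eq (p := 11) (by rw [Nat.card_zpowers, ha11]) hba hb1
      have e2 := PGroups.zpowers_eq_of_card_eq (p := 11) (by rw [Nat.card_zpowers, hw11]) hbw hb1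
      obtain ⟨i, hi⟩ := mem_zpowers_iff.1 ((e1.symm.trans e2) ▸ mem_zpowers (a : G))
      exact hne ⟨i, Subtype.ext (by simpa using hi)⟩
    rw [hinf, Subgroup.card_bot, mul_one, Nat.card_zpowers, Nat.card_zpowers, ha11, hw11] at h
    have := card_dvd_of_le hRT
    rw [hR, h, hT22] at this
    norm_num at this
  have hOx : ∀ q : ℕ, q.Prime → q ∣ Nat.card O → q = 11 := by
    intro q hq hd
    by_contra hne
    haveI : Fact q.Prime := ⟨hq⟩
    obtain ⟨⟨a, haO⟩, ha⟩ := exists_prime_orderOf_dvd_card' (G := O) q hd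
    rw [Subgroup.orderOf_mk] at ha
    have hax : Commute a (⟨x, hxY⟩ : Y) := commute_of_fixed hOodd (t := ⟨t, htY⟩) (v := v)
      (Subtype.ext (show t * t = 1 by rw [← pow_two, ← ht, pow_orderOf_eq_one]))
      (fun g => Subtype.ext (mem_centralizer_singleton_iff.1 g.2)) hvO hfix
      (q := q) (by rw [hv11]; exact (Nat.coprime_primes (by norm_num) hq).2 (Ne.symm hne))
      haO hxO (by rw [← ha, pow_orderOf_eq_one])
    have haU := (s.cent_x_le hw hwZ).1 (mem_inf.2
      ⟨mem_centralizer_singleton_iff.2 (congrArg Subtype.val hax.eq), a.2⟩)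
    have := orderOf_dvd_natCard (U : Subgroup G) haU
    rw [Subgroup.orderOf_coe, ha, s.card_U] at this
    exact hne ((Nat.prime_dvd_prime_iff_eq hq (by norm_num)).1 (hq.dvd_of_dvd_pow this))
  obtain ⟨k, hk⟩ : ∃ k, Nat.card O = 11 ^ k :=
    ⟨_, Nat.eq_prime_pow_of_unique_prime_dvd Nat.card_pos.ne' (fun {d} hd hd' => hOx d hd hd')⟩
  have hk3 : k ≤ 3 := by
    have h1 : 11 ^ k ∣ jOrder := hk ▸ s.env.card ▸
      ((Dvd.intro 2 hYO.symm).trans (card_subgroup_dvd_card Y))
    by_contra hgt
    have := (Nat.pow_dvd_pow 11 (show 4 ≤ k by omega)).trans h1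
    norm_num [jOrder] at this
  have hk2 : 2 ≤ k := by
    have h1 := (s.conjSet_w hw hwZ).2
    have h2 : 242 ∣ Nat.card Y := h1 ▸ card_dvd_of_le inf_le_right
    rw [hYO, hk] at h2
    by_contra hlt
    interval_cases k <;> norm_num at h2
  have hne3 : k ≠ 3 := by
    intro hk'
    subst hk'
    have hP' : IsPGroup 11 (O.map Y.subtype) := IsPGroup.of_card
      (by rw [Subgroup.card_map_of_injective (Subgroup.subtype_injective _), hk])
    obtain ⟨P, hPle⟩ := hP'.exists_le_sylow
    obtain ⟨g, hg⟩ := MulAction.exists_smul_eq G P U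
    have heq : O.map Y.subtype = (P : Subgroup G) := Subgroup.eq_of_le_of_card_ge hPle (by
      rw [Subgroup.card_map_of_injective (Subgroup.subtype_injective _), hk,
        card_sylow_eleven s.env.card P])
    have hmem : g * w * g⁻¹ ∈ (U : Subgroup G) ∧ ∀ u ∈ (U : Subgroup G), Commute (g * w * g⁻¹) u := by
      have hU' : (U : Subgroup G) = (O.map Y.subtype).map (MulAut.conj g).toMonoidHom := by
        rw [heq, ← hg, Sylow.coe_subgroup_smul]; rfl
      refine ⟨hU' ▸ ⟨w, ⟨v, hvO, rfl⟩, rfl⟩, fun u hu => ?_⟩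
      rw [hU'] at hu
      obtain ⟨_, ⟨o, -, rfl⟩, rfl⟩ := hu
      have := (show Commute w (o : G) from (mem_centralizer_singleton_iff.1 o.2).symm).map (MulAut.conj g)
      simpa using this
    have hz := s.centre _ hmem.1 hmem.2
    obtain ⟨m, -, hm⟩ := s.conjSet_x.ge ⟨hz, fun e => by
      rw [conj_eq_one_iff.1 e, orderOf_one] at hw11; omega⟩
    exact hnc ((isConj_iff.2 ⟨m, hm⟩).trans (isConj_iff.2 ⟨g⁻¹, by group⟩))
  rw [hYO, hk, show k = 2 by omega]
  norm_num

end Eleven

end Cfsg.Agent.H69.JFourSylow
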