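import Cfsg.Agent.H69.JFourSylow.Sylow
import Cfsg.Agent.H98.JFour.InvSet

/-!
The two classes of elements of order 11.
-/

set_option autoImplicit false

namespace Cfsg.Agent.H69.JFourSylow

open Subgroup Cfsg.Agent.H43.JFour Cfsg.Agent.H43.JFour.Ctx
open Cfsg.Agent.H98.JFour (conjSet conjSet_card)
open scoped Pointwise

universe u v

variable {G : Type u} [Group G] [Finite G] {A : Type v} [Group A] {M : Subgroup A} {c : Ctx G A}

/-- An element of prime power order is conjugate into a given subgroup of Sylow order. -/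
theorem conj_into {K Q : Subgroup G} (hQK : Q ≤ K) {p k m : ℕ} [Fact p.Prime]
    (hK : Nat.card K = p ^ k * m) (hm : ¬ p ∣ m) (hQ : Nat.card Q = p ^ k) {a : G} (ha : a ∈ K)
    {n : ℕ} (hord : orderOf a = p ^ n) : ∃ g ∈ K, g⁻¹ * a * g ∈ Q := by
  have hp : p.Prime := Fact.out
  have hmult : (Nat.card K).factorization p = k := by
    rw [hK, Nat.factorization_mul (pow_ne_zero _ hp.ne_zero) (by rintro rfl; exact hm (dvd_zero p)),
      Finsupp.coe_add, Pi.add_apply, hp.factorization_pow, Finsupp.single_eq_same,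
      Nat.factorization_eq_zero_of_not_dvd hm, add_zero]
  let S : Sylow p K := Sylow.ofCard (Q.subgroupOf K)
    (by rw [Nat.card_congr (subgroupOfEquivOfLe hQK).toEquiv, hQ, hmult])
  obtain ⟨T, hT⟩ := (IsPGroup.of_card (G := zpowers (⟨a, ha⟩ : K)) (n := n)
    (by rw [Nat.card_zpowers, Subgroup.orderOf_mk, hord])).exists_le_sylow
  obtain ⟨g, hg⟩ := MulAction.exists_smul_eq K S T
  have hmem : (⟨a, ha⟩ : K) ∈ ((g • S : Sylow p K) : Subgroup K) := by
    rw [hg]; exact hT (mem_zpowers _)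
  rw [Sylow.coe_subgroup_smul] at hmem
  obtain ⟨b, hb, hbe⟩ := hmem
  refine ⟨g, g.2, ?_⟩
  have e : (g : G) * (b : G) * (g : G)⁻¹ = a := congrArg Subtype.val hbe
  rw [← e, show (g : G)⁻¹ * ((g : G) * b * (g : G)⁻¹) * g = b by group]
  exact mem_subgroupOf.1 hb

/-- Division bookkeeping for the centraliser in the normaliser. -/
theorem eleven_bound : ∀ d ∈ Nat.divisors 10, ¬ 5 ∣ d → d ≤ 2 := by decide

namespace Eleven

variable {x : G} {U : Sylow 11 G} (s : Eleven c M x U)
include s

theorem x_mem : x ∈ (U : Subgroup G) := (mem_inf.1 (s.inf_H.ge (mem_zpowers x))).1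

theorem x_ord : orderOf x = 11 := s.at'.ord

theorem norm_U {g : G} (hg : g ∈ centralizer ({x} : Set G)) {b : G} (hb : b ∈ (U : Subgroup G)) :
    g⁻¹ * b * g ∈ (U : Subgroup G) := by
  simpa using (mem_normalizer_iff.1 (inv_mem (s.cent_norm hg)) b).1 hb

/-- The involutions centralising `x` are conjugates of `z` there. -/
theorem invol_cent {i : G} (hi : orderOf i = 2) (hix : Commute i x) :
    ∃ g ∈ centralizer ({x} : Set G), g * c.z * g⁻¹ = i := by
  haveI : Fact (Nat.Prime 2) := ⟨Nat.prime_two⟩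
  obtain ⟨g, hg, hgi⟩ := conj_into (p := 2) (k := 3) (m := 3 * 11 ^ 3)
    (K := centralizer ({x} : Set G)) (Q := QX c x) inf_le_right
    (by rw [s.card_cent]; norm_num) (by norm_num) (by rw [s.at'.card_Q]; norm_num)
    (mem_centralizer_singleton_iff.2 hix.eq) (n := 1) (by rw [hi]; norm_num)
  refine ⟨g, hg, ?_⟩
  rw [← s.at'.unique_invol hgi (by
    rw [show g⁻¹ * i * g = MulAut.conj g⁻¹ i by simp, MulEquiv.orderOf_eq, hi])]
  group

/-- No element of order 2 centralises `x` and a non-central element of `U`. -/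
theorem mem_Z_of_invol {i w : G} (hi : orderOf i = 2) (hix : Commute i x)
    (hw : w ∈ (U : Subgroup G)) (hiw : Commute i w) : w ∈ zpowers x := by
  obtain ⟨g, hg, hgi⟩ := s.invol_cent hi hix
  have h1 : Commute c.z (g⁻¹ * w * g) := by
    have := hiw.map (MulAut.conj g⁻¹)
    rw [← hgi] at this
    simpa [mul_assoc] using this
  have h2 : g⁻¹ * w * g ∈ (U : Subgroup G) ⊓ c.H := mem_inf.2 ⟨s.norm_U hg hw, c.mem_H.2 h1.eq⟩
  rw [s.inf_H] at h2
  obtain ⟨k, hk⟩ := mem_zpowers_iff.1 h2
  have hgk : Commute g (x ^ k) :=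
    (show Commute g x from mem_centralizer_singleton_iff.1 hg).zpow_right k
  refine ⟨k, ?_⟩
  show x ^ k = w
  calc x ^ k = g * x ^ k * g⁻¹ := by rw [hgk.eq, mul_inv_cancel_right]
    _ = w := by rw [hk]; group

/-- An element of `C(x)` of order a power of 11 lies in `U`. -/
theorem mem_U {d : G} (hd : d ∈ centralizer ({x} : Set G)) {n : ℕ} (hn : orderOf d = 11 ^ n) :
    d ∈ (U : Subgroup G) := by
  haveI : Fact (Nat.Prime 11) := ⟨by norm_num⟩
  obtain ⟨g, hg, hgd⟩ := conj_into (p := 11) (k := 3) (m := 24) s.le_cent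
    (by rw [s.card_cent]; norm_num) (by norm_num) s.card_U hd hn
  have := (mem_normalizer_iff.1 (s.cent_norm hg) _).1 hgd
  simpa [mul_assoc] using this

theorem conjSet_x [IsSimpleGroup G] :
    conjSet (normalizer ((U : Subgroup G) : Set G)) x = (zpowers x : Set G) \ {1} := by
  have hsub : conjSet (normalizer ((U : Subgroup G) : Set G)) x ⊆ (zpowers x : Set G) \ {1} := by
    rintro _ ⟨g, hg, rfl⟩
    rw [s.norm_eq] at hg
    refine ⟨(mem_normalizer_iff.1 hg x).1 (mem_zpowers x), fun e => ?_⟩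
    have h := s.x_ord
    rw [conj_eq_one_iff.1 e, orderOf_one] at h
    omega
  refine Set.eq_of_subset_of_ncard_le hsub (le_of_eq ?_) (Set.toFinite _)
  have h := conjSet_card (normalizer ((U : Subgroup G) : Set G)) x
  rw [inf_eq_right.2 s.cent_norm, s.card_cent, s.card_norm] at h
  rw [Set.ncard_diff_singleton_of_mem (one_mem (zpowers x)), ← Nat.card_coe_set_eq]
  show Nat.card (zpowers x) - 1 = _
  rw [Nat.card_zpowers, s.x_ord]
  omega

/-- The centraliser in `C(x)` of a non-central element of `U`. -/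
theorem cent_x_le [IsSimpleGroup G] {w : G} (hw : w ∈ (U : Subgroup G)) (hwZ : w ∉ zpowers x) :
    centralizer ({x} : Set G) ⊓ centralizer ({w} : Set G) ≤ (U : Subgroup G) ∧
      Nat.card ↥(centralizer ({x} : Set G) ⊓ centralizer ({w} : Set G)) ≤ 121 := by
  set D := centralizer ({x} : Set G) ⊓ centralizer ({w} : Set G) with hD
  have hdvd : Nat.card D ∣ 24 * 11 ^ 3 := s.card_cent ▸ card_dvd_of_le inf_le_left
  have h2 : ¬ 2 ∣ Nat.card D := fun hd => by
    haveI : Fact (Nat.Prime 2) := ⟨Nat.prime_two⟩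
    obtain ⟨⟨i, hiD⟩, hi⟩ := exists_prime_orderOf_dvd_card' (G := D) 2 hd
    rw [Subgroup.orderOf_mk] at hi
    exact hwZ (s.mem_Z_of_invol hi (mem_centralizer_singleton_iff.1 (mem_inf.1 hiD).1) hw
      (mem_centralizer_singleton_iff.1 (mem_inf.1 hiD).2))
  have h3 : ¬ 3 ∣ Nat.card D := fun hd => by
    haveI : Fact (Nat.Prime 3) := ⟨Nat.prime_three⟩
    haveI : Fact (Nat.Prime 11) := ⟨by norm_num⟩
    obtain ⟨⟨r, hrD⟩, hr⟩ := exists_prime_orderOf_dvd_card' (G := D) 3 hd
    rw [Subgroup.orderOf_mk] at hr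
    obtain ⟨g, hg, hgp⟩ := conj_into (p := 3) (k := 1) (m := 8 * 11 ^ 3)
      (K := centralizer ({x} : Set G)) (Q := c.P)
      (fun p hp => mem_centralizer_singleton_iff.2 (s.at'.P_comm hp).eq)
      (by rw [s.card_cent]; norm_num) (by norm_num) (by rw [s.at'.ok.cardP]; norm_num)
      (mem_inf.1 hrD).1 (n := 1) (by rw [hr]; norm_num)
    set p := g⁻¹ * r * g with hp
    have hp1 : p ≠ 1 := fun e => by
      have : r = 1 := by
        rw [show r = g * p * g⁻¹ by rw [hp]; group, e, mul_one, mul_inv_cancel]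
      rw [this, orderOf_one] at hr; omega
    have hPp : zpowers p = c.P :=
      PGroups.zpowers_eq_of_card_eq (p := 3) (by rw [s.at'.ok.cardP]) hgp hp1
    have hw' : g⁻¹ * w * g ∈ c.C := by
      rw [← s.env.ok.cent_P s.env.data s.env.noncomm, mem_centralizer_iff]
      intro q hq
      rw [← hPp] at hq
      obtain ⟨i, rfl⟩ := mem_zpowers_iff.1 hq
      refine ((Commute.zpow_left ?_ i)).eq
      have := (show Commute r w from mem_centralizer_singleton_iff.1 (mem_inf.1 hrD).2).map
        (MulAut.conj g⁻¹)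
      simpa [hp, mul_assoc] using this
    set S := zpowers x ⊔ zpowers (g⁻¹ * w * g) with hS
    have hSC : S ≤ c.C := sup_le (zpowers_le.2 s.at'.mem) (zpowers_le.2 hw')
    have hwU := s.norm_U hg hw
    have hSU : S ≤ (U : Subgroup G) := sup_le (zpowers_le.2 s.x_mem) (zpowers_le.2 hwU)
    obtain ⟨k, hk3, hk⟩ := (Nat.dvd_prime_pow (by norm_num)).1 (s.card_U ▸ card_dvd_of_le hSU)
    have hgx : Commute g x := mem_centralizer_singleton_iff.1 hg
    have hgt : 2 ≤ k := by
      by_contra hlt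
      have hle : Nat.card S ≤ Nat.card (zpowers x) := by
        rw [hk, Nat.card_zpowers, s.x_ord]
        calc 11 ^ k ≤ 11 ^ 1 := Nat.pow_le_pow_right (by norm_num) (by omega)
          _ = 11 := pow_one _
      have he := Subgroup.eq_of_le_of_card_ge (show zpowers x ≤ S from le_sup_left) hle
      have hm : g⁻¹ * w * g ∈ zpowers x :=
        he.ge ((le_sup_right : zpowers (g⁻¹ * w * g) ≤ S) (mem_zpowers _))
      obtain ⟨i, hi⟩ := mem_zpowers_iff.1 hm
      exact hwZ ⟨i, by
        show x ^ i = w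
        calc x ^ i = g * x ^ i * g⁻¹ := by rw [(hgx.zpow_right i).eq, mul_inv_cancel_right]
          _ = w := by rw [hi]; group⟩
    have h121 : 11 ^ 2 ∣ Nat.card c.C :=
      (Nat.pow_dvd_pow 11 hgt).trans (hk ▸ card_dvd_of_le hSC)
    rw [s.env.ok.card_C s.env.data] at h121
    norm_num at h121
  have hcop : (Nat.card D).Coprime 24 := by
    have h2' : (Nat.card D).Coprime 2 := ((Nat.Prime.coprime_iff_not_dvd Nat.prime_two).2 h2).symm
    have h3' : (Nat.card D).Coprime 3 := ((Nat.Prime.coprime_iff_not_dvd Nat.prime_three).2 h3).symm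
    rw [show 24 = 2 ^ 3 * 3 by norm_num]
    exact (h2'.pow_right 3).mul_right h3'
  have hd11 : Nat.card D ∣ 11 ^ 3 := hcop.dvd_of_dvd_mul_left hdvd
  have hDU : D ≤ (U : Subgroup G) := fun d hd => by
    obtain ⟨n, -, hn⟩ := (Nat.dvd_prime_pow (by norm_num)).1 ((orderOf_dvd_natCard D hd).trans hd11)
    exact s.mem_U (mem_inf.1 hd).1 hn
  refine ⟨hDU, ?_⟩
  obtain ⟨k, hk3, hk⟩ := (Nat.dvd_prime_pow (by norm_num)).1 hd11
  rw [hk]
  rcases Nat.lt_or_ge k 3 with hlt | hge
  · calc 11 ^ k ≤ 11 ^ 2 := Nat.pow_le_pow_right (by norm_num) (by omega)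
      _ = 121 := by norm_num
  · exfalso
    have hk' : k = 3 := by omega
    have hDeq : D = (U : Subgroup G) :=
      Subgroup.eq_of_le_of_card_ge hDU (by rw [s.card_U, hk, hk'])
    exact hwZ (s.centre w hw fun v hv =>
      (show Commute v w from mem_centralizer_singleton_iff.1 (mem_inf.1 (hDeq.ge hv)).2).symm)

/-- The centraliser in `N(U)` of a non-central element of `U`. -/
theorem cent_norm_le [IsSimpleGroup G] {w : G} (hw : w ∈ (U : Subgroup G)) (hwZ : w ∉ zpowers x)
    (hw11 : orderOf w = 11) :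
    Nat.card ↥(normalizer ((U : Subgroup G) : Set G) ⊓ centralizer ({w} : Set G)) ≤ 242 := by
  haveI : Fact (Nat.Prime 11) := ⟨by norm_num⟩
  haveI : Fact (Nat.Prime 5) := ⟨by norm_num⟩
  set N := normalizer ((U : Subgroup G) : Set G) with hN
  set K := N ⊓ centralizer ({w} : Set G) with hK
  let f : K →* MulAut (zpowers x) := (zpowers x).normalizerMonoidHom.comp
    (Subgroup.inclusion (inf_le_left.trans s.norm_eq.le))
  have hker : Nat.card f.ker = Nat.card ↥(centralizer ({x} : Set G) ⊓ centralizer ({w} : Set G)) := by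
    have he : f.ker = (centralizer ({x} : Set G) ⊓ centralizer ({w} : Set G)).subgroupOf K := by
      ext k
      have h1 : k ∈ f.ker ↔ Subgroup.inclusion (inf_le_left.trans s.norm_eq.le) k ∈
          (zpowers x).normalizerMonoidHom.ker := Iff.rfl
      rw [h1, normalizerMonoidHom_ker, mem_subgroupOf, mem_subgroupOf]
      constructor
      · intro h
        exact mem_inf.2 ⟨centralizer_le (Set.singleton_subset_iff.2 (mem_zpowers x)) h,
          (mem_inf.1 k.2).2⟩
      · intro h
        refine mem_centralizer_iff.2 ?_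
        rintro _ ⟨i, rfl⟩
        exact ((show Commute (k : G) x from
          mem_centralizer_singleton_iff.1 (mem_inf.1 h).1).zpow_right i).symm.eq
    rw [he]
    exact Nat.card_congr (subgroupOfEquivOfLe
      (inf_le_inf s.cent_norm le_rfl)).toEquiv
  have hr10 : Nat.card f.range ∣ 10 := by
    have h : Nat.card (MulAut (zpowers x)) = 10 := by
      rw [IsCyclic.card_mulAut, Nat.card_zpowers, s.x_ord]; decide
    exact h ▸ Subgroup.card_subgroup_dvd_card _
  have hmul : Nat.card K = Nat.card f.range * Nat.card f.ker := by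
    rw [← Nat.card_congr (QuotientGroup.quotientKerEquivRange f).toEquiv]
    exact f.ker.card_eq_card_quotient_mul_card_subgroup
  have h5 : ¬ 5 ∣ Nat.card f.range := fun hd => by
    obtain ⟨⟨q, hqK⟩, hq⟩ :=
      exists_prime_orderOf_dvd_card' (G := K) 5 (hd.trans (hmul ▸ dvd_mul_right _ _))
    rw [Subgroup.orderOf_mk] at hq
    exact s.env.five q hq (hw11 ▸ orderOf_dvd_natCard _ (mem_centralizer_singleton_iff.2
      (mem_centralizer_singleton_iff.1 (mem_inf.1 hqK).2).symm))
  have hle : Nat.card f.range ≤ 2 :=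
    eleven_bound _ (Nat.mem_divisors.2 ⟨hr10, by norm_num⟩) h5
  rw [hmul, hker]
  exact (Nat.mul_le_mul hle (s.cent_x_le hw hwZ).2).trans (by norm_num)

theorem ord_eleven {w : G} (hw : w ∈ (U : Subgroup G)) (h1 : w ≠ 1) : orderOf w = 11 := by
  haveI : Fact (Nat.Prime 11) := ⟨by norm_num⟩
  exact orderOf_eq_prime (s.exponent w hw) h1

/-- The non-central elements of `U` form one orbit of the normaliser. -/
theorem conjSet_w [IsSimpleGroup G] {w : G} (hw : w ∈ (U : Subgroup G)) (hwZ : w ∉ zpowers x) :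
    conjSet (normalizer ((U : Subgroup G) : Set G)) w = ((U : Subgroup G) : Set G) \ (zpowers x : Set G) ∧
      Nat.card ↥(normalizer ((U : Subgroup G) : Set G) ⊓ centralizer ({w} : Set G)) = 242 := by
  have hw11 := s.ord_eleven hw fun e => hwZ (e ▸ one_mem _)
  have hle := s.cent_norm_le hw hwZ hw11
  have hsub : conjSet (normalizer ((U : Subgroup G) : Set G)) w ⊆
      ((U : Subgroup G) : Set G) \ (zpowers x : Set G) := by
    rintro _ ⟨g, hg, rfl⟩
    refine ⟨(mem_normalizer_iff.1 hg w).1 hw, fun h => hwZ ?_⟩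
    rw [s.norm_eq] at hg
    exact (mem_normalizer_iff.1 hg w).2 h
  have hn : (((U : Subgroup G) : Set G) \ (zpowers x : Set G)).ncard = 1320 := by
    rw [Set.ncard_diff (zpowers_le.2 s.x_mem), ← Nat.card_coe_set_eq, ← Nat.card_coe_set_eq]
    show Nat.card (U : Subgroup G) - Nat.card (zpowers x) = _
    rw [s.card_U, Nat.card_zpowers, s.x_ord]
    norm_num
  have h := conjSet_card (normalizer ((U : Subgroup G) : Set G)) w
  rw [s.card_norm] at h
  set S := conjSet (normalizer ((U : Subgroup G) : Set G)) w with hS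
  set k := Nat.card ↥(normalizer ((U : Subgroup G) : Set G) ⊓ centralizer ({w} : Set G)) with hk
  have hup : S.ncard ≤ 1320 := hn ▸ Set.ncard_le_ncard hsub (Set.toFinite _)
  have hlo : 1320 ≤ S.ncard := by
    have h1 : S.ncard * k ≤ S.ncard * 242 := Nat.mul_le_mul_left _ hle
    have h2 : (2 : ℕ) ^ 4 * 3 * 5 * 11 ^ 3 = 319440 := by norm_num
    omega
  refine ⟨Set.eq_of_subset_of_ncard_le hsub (hn ▸ hlo) (Set.toFinite _), ?_⟩
  rw [show S.ncard = 1320 by omega] at h
  norm_num at h
  omega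

theorem exists_noncentral : ∃ w ∈ (U : Subgroup G), w ∉ zpowers x := by
  by_contra hno
  push Not at hno
  have := card_dvd_of_le (show (U : Subgroup G) ≤ zpowers x from hno)
  rw [s.card_U, Nat.card_zpowers, s.x_ord] at this
  norm_num at this

/-- An element of order 11 is conjugate to `x` or to the given non-central element. -/
theorem conj_x_or [IsSimpleGroup G] {w : G} (hw : w ∈ (U : Subgroup G)) (hwZ : w ∉ zpowers x)
    {v : G} (hv : orderOf v = 11) : IsConj v x ∨ IsConj v w := by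
  haveI : Fact (Nat.Prime 11) := ⟨by norm_num⟩
  obtain ⟨g, -, hg⟩ := conj_into (p := 11) (k := 3) (m := 65195770883604480) (K := ⊤)
    (Q := (U : Subgroup G)) le_top
    (by rw [Subgroup.card_top, s.env.card]; norm_num [jOrder]) (by norm_num) s.card_U
    (mem_top v) (n := 1) (by rw [hv]; norm_num)
  have hconj : IsConj v (g⁻¹ * v * g) := isConj_iff.2 ⟨g⁻¹, by group⟩
  by_cases hz : g⁻¹ * v * g ∈ zpowers x
  · refine Or.inl (hconj.trans (IsConj.symm ?_))
    have hne : g⁻¹ * v * g ≠ 1 := fun e => by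
      have : v = 1 := by
        calc v = g * (g⁻¹ * v * g) * g⁻¹ := by group
          _ = 1 := by rw [e, mul_one, mul_inv_cancel]
      rw [this, orderOf_one] at hv; omega
    obtain ⟨m, -, hm⟩ := s.conjSet_x.ge ⟨hz, hne⟩
    exact isConj_iff.2 ⟨m, hm⟩
  · refine Or.inr (hconj.trans (IsConj.symm ?_))
    obtain ⟨m, -, hm⟩ := (s.conjSet_w hw hwZ).1.ge ⟨hg, hz⟩
    exact isConj_iff.2 ⟨m, hm⟩

/-- An element of order 11 centralised by an involution outside the class of `z`. -/
theorem not_conj_of_commute {t v : G} (ht : orderOf t = 2) (htz : ¬ IsConj c.z t)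
    (htv : Commute t v) : ¬ IsConj x v := by
  rintro hc
  obtain ⟨g, hg⟩ := isConj_iff.1 hc
  have h1 : Commute (g⁻¹ * t * g) x := by
    have := htv.map (MulAut.conj g⁻¹)
    rw [← hg] at this
    simpa [mul_assoc] using this
  have h2 : orderOf (g⁻¹ * t * g) = 2 := by
    rw [show g⁻¹ * t * g = MulAut.conj g⁻¹ t by simp, MulEquiv.orderOf_eq, ht]
  obtain ⟨m, -, hm⟩ := s.invol_cent h2 h1
  exact htz (isConj_iff.2 ⟨g * m, by
    rw [show g * m * c.z * (g * m)⁻¹ = g * (m * c.z * m⁻¹) * g⁻¹ by group, hm]; group⟩)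

/-- The two classes. -/
theorem two_classes [IsSimpleGroup G] {t : G} (ht : orderOf t = 2) (htz : ¬ IsConj c.z t)
    (hcard : 11 ∣ Nat.card (centralizer ({t} : Set G))) :
    ∃ v : G, orderOf v = 11 ∧ Commute t v ∧ ¬ IsConj x v ∧
      ∀ w : G, orderOf w = 11 → IsConj w x ∨ IsConj w v := by
  haveI : Fact (Nat.Prime 11) := ⟨by norm_num⟩
  obtain ⟨⟨v, hvt⟩, hv⟩ := exists_prime_orderOf_dvd_card' (G := centralizer ({t} : Set G)) 11 hcard
  rw [Subgroup.orderOf_mk] at hv
  have htv : Commute t v := (mem_centralizer_singleton_iff.1 hvt).symm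
  have hnc := s.not_conj_of_commute ht htz htv
  obtain ⟨w, hw, hwZ⟩ := s.exists_noncentral
  have hvw : IsConj v w := (s.conj_x_or hw hwZ hv).resolve_left fun h => hnc h.symm
  exact ⟨v, hv, htv, hnc, fun u hu => (s.conj_x_or hw hwZ hu).imp id fun h => h.trans hvw.symm⟩

end Eleven

end Cfsg.Agent.H69.JFourSylow
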