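import Mathlib.LinearAlgebra.Matrix.GeneralLinearGroup.Card
import Mathlib.LinearAlgebra.Matrix.Notation
import Mathlib.Data.ZMod.Basic
import Mathlib.GroupTheory.OrderOfElement
import Mathlib.Tactic

/-!
A recognition of `GL(2,3)` by relations.
-/

set_option autoImplicit false

namespace Cfsg.Agent.H69.JFourSylow

open Matrix

universe u

/-- The relations among the four elements. -/
structure GLRel {G : Type u} [Group G] (A B p i : G) : Prop where
  four : A ^ 4 = 1
  sq : A * A ≠ 1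
  sqB : B * B = A * A
  BA : B * A = A ^ 3 * B
  cube : p ^ 3 = 1
  pA : p * A = B * p
  pB : p * B = A * B * p
  ii : i * i = 1
  iA : i * A = A ^ 3 * i
  iB : i * B = A ^ 3 * B * i
  ip : i * p = p ^ 2 * i

/-- Normal forms. -/
abbrev Word := Fin 4 × Fin 2 × Fin 3 × Fin 2

section

variable {G : Type u} [Group G] {A B p i : G}

/-- The value of a normal form. -/
def val (A B p i : G) (w : Word) : G :=
  A ^ (w.1 : ℕ) * B ^ (w.2.1 : ℕ) * p ^ (w.2.2.1 : ℕ) * i ^ (w.2.2.2 : ℕ)

/-- Left multiplication by the first generator. -/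
def lA : Word → Word := fun w => (w.1 + 1, w.2.1, w.2.2.1, w.2.2.2)

/-- Left multiplication by the second generator. -/
def lB : Word → Word := fun w =>
  (3 * w.1 + (if w.2.1 = 1 then 2 else 0), w.2.1 + 1, w.2.2.1, w.2.2.2)

/-- The conjugation by the element of order three on the first two coordinates. -/
def rot : Fin 4 → Fin 2 → Fin 4 × Fin 2
  | 0, 0 => (0, 0)
  | 1, 0 => (0, 1)
  | 2, 0 => (2, 0)
  | 3, 0 => (2, 1)
  | 0, 1 => (1, 1)
  | 1, 1 => (1, 0)
  | 2, 1 => (3, 1)
  | 3, 1 => (3, 0)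

/-- Left multiplication by the third generator. -/
def lp : Word → Word := fun w =>
  ((rot w.1 w.2.1).1, (rot w.1 w.2.1).2, w.2.2.1 + 1, w.2.2.2)

/-- Left multiplication by the fourth generator. -/
def li : Word → Word := fun w =>
  (3 * w.1 + (if w.2.1 = 1 then 3 else 0), w.2.1, -w.2.2.1, w.2.2.2 + 1)

/-- The product of normal forms. -/
def mw (w v : Word) : Word :=
  lA^[(w.1 : ℕ)] (lB^[(w.2.1 : ℕ)] (lp^[(w.2.2.1 : ℕ)] (li^[(w.2.2.2 : ℕ)] v)))

theorem pow_fin_add {g : G} {n : ℕ} [NeZero n] (h : g ^ n = 1) (a b : Fin n) :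
    g ^ ((a + b : Fin n) : ℕ) = g ^ (a : ℕ) * g ^ (b : ℕ) := by
  rw [Fin.val_add, ← pow_eq_pow_mod _ h, pow_add]

namespace GLRel

variable (h : GLRel A B p i)
include h

theorem val_lA (w : Word) : val A B p i (lA w) = A * val A B p i w := by
  obtain ⟨a, b, c, d⟩ := w
  simp only [val, lA]
  rw [add_comm, pow_fin_add h.four, show ((1 : Fin 4) : ℕ) = 1 from rfl, pow_one]
  simp only [mul_assoc]

theorem B_pow (n : ℕ) : B * A ^ n = A ^ (3 * n) * B := by
  have : SemiconjBy B A (A ^ 3) := h.BA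
  have h1 := this.pow_right n
  rw [← pow_mul] at h1
  exact h1

theorem val_lB (w : Word) : val A B p i (lB w) = B * val A B p i w := by
  obtain ⟨a, b, c, d⟩ := w
  have hA : ∀ x : Fin 4, A ^ ((3 * x : Fin 4) : ℕ) = A ^ (3 * (x : ℕ)) := fun x => by
    rw [Fin.val_mul, show ((3 : Fin 4) : ℕ) = 3 from rfl, ← pow_eq_pow_mod _ h.four]
  fin_cases b
  · simp only [val, lB, Fin.zero_eta, Fin.isValue, zero_ne_one, if_false, add_zero, zero_add,
      Fin.val_zero, pow_zero, mul_one, Fin.val_one, pow_one]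
    rw [hA, ← mul_assoc, ← mul_assoc, h.B_pow]
  · simp only [val, lB, Fin.mk_one, Fin.isValue, if_true, Fin.val_one, pow_one,
      show ((1 + 1 : Fin 2) : ℕ) = 0 from rfl, pow_zero, mul_one]
    rw [pow_fin_add h.four, hA, show ((2 : Fin 4) : ℕ) = 2 from rfl, ← mul_assoc, ← mul_assoc,
      ← mul_assoc, h.B_pow, mul_assoc _ B B, h.sqB, pow_two]

theorem i_pow (n : ℕ) : i * A ^ n = A ^ (3 * n) * i := by
  have : SemiconjBy i A (A ^ 3) := h.iA
  have h1 := this.pow_right n
  rw [← pow_mul] at h1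
  exact h1

theorem val_li (w : Word) : val A B p i (li w) = i * val A B p i w := by
  obtain ⟨a, b, c, d⟩ := w
  have hA : ∀ x : Fin 4, A ^ ((3 * x : Fin 4) : ℕ) = A ^ (3 * (x : ℕ)) := fun x => by
    rw [Fin.val_mul, show ((3 : Fin 4) : ℕ) = 3 from rfl, ← pow_eq_pow_mod _ h.four]
  have hd : ∀ x : Fin 2, i ^ ((x + 1 : Fin 2) : ℕ) = i * i ^ (x : ℕ) := fun x => by
    rw [add_comm, pow_fin_add (by rw [pow_two, h.ii]), show ((1 : Fin 2) : ℕ) = 1 from rfl, pow_one]
  have hc : i * p ^ (c : ℕ) = p ^ ((-c : Fin 3) : ℕ) * i := by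
    fin_cases c
    · simp
    · simpa using h.ip
    · show i * p ^ 2 = p ^ 1 * i
      rw [pow_two, ← mul_assoc, h.ip, mul_assoc, h.ip, ← mul_assoc, ← pow_add, pow_one,
        show 2 + 2 = 3 + 1 from rfl, pow_add, h.cube, one_mul, pow_one]
  fin_cases b
  · simp only [val, li, Fin.zero_eta, Fin.isValue, zero_ne_one, if_false, add_zero,
      Fin.val_zero, pow_zero, mul_one]
    rw [hA, hd, ← mul_assoc, mul_assoc _ (p ^ _) i, ← hc, ← mul_assoc, ← h.i_pow]
    simp only [mul_assoc]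
  · simp only [val, li, Fin.mk_one, Fin.isValue, if_true, Fin.val_one, pow_one]
    rw [pow_fin_add h.four, hA, hd, show ((3 : Fin 4) : ℕ) = 3 from rfl]
    calc A ^ (3 * (a : ℕ)) * A ^ 3 * B * p ^ ((-c : Fin 3) : ℕ) * (i * i ^ (d : ℕ))
        = A ^ (3 * (a : ℕ)) * (A ^ 3 * B) * (p ^ ((-c : Fin 3) : ℕ) * i) * i ^ (d : ℕ) := by
          simp only [mul_assoc]
      _ = A ^ (3 * (a : ℕ)) * (A ^ 3 * B * i) * p ^ (c : ℕ) * i ^ (d : ℕ) := by
          rw [← hc]; simp only [mul_assoc]
      _ = (A ^ (3 * (a : ℕ)) * i) * B * p ^ (c : ℕ) * i ^ (d : ℕ) := by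
          rw [← h.iB]; simp only [mul_assoc]
      _ = i * (A ^ (a : ℕ) * B * p ^ (c : ℕ) * i ^ (d : ℕ)) := by
          rw [← h.i_pow]; simp only [mul_assoc]

theorem rot_spec (a : Fin 4) (b : Fin 2) :
    p * (A ^ (a : ℕ) * B ^ (b : ℕ)) = A ^ ((rot a b).1 : ℕ) * B ^ ((rot a b).2 : ℕ) * p := by
  have hA4 := h.four
  have e2 : p * A ^ 2 = A ^ 2 * p := by
    rw [pow_two, ← mul_assoc, h.pA, mul_assoc, h.pA, ← mul_assoc, h.sqB]
  have e3 : p * A ^ 3 = A ^ 2 * B * p := by
    rw [pow_succ, ← mul_assoc, e2, mul_assoc, h.pA, ← mul_assoc]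
  fin_cases a <;> fin_cases b <;> simp only [rot, Fin.zero_eta, Fin.mk_one, Fin.isValue, Fin.val_zero,
    Fin.val_one, pow_zero, pow_one, one_mul, mul_one, Fin.reduceFinMk, Fin.val_two]
  · exact h.pB
  · exact h.pA
  · calc p * (A * B) = p * A * B := (mul_assoc _ _ _).symm
      _ = B * (A * B * p) := by rw [h.pA, mul_assoc, h.pB]
      _ = A ^ 3 * (B * B) * p := by rw [← mul_assoc, ← mul_assoc, h.BA]; simp only [mul_assoc]
      _ = A * p := by
          rw [h.sqB, ← pow_two, ← pow_add, show 3 + 2 = 4 + 1 from rfl, pow_add, hA4, one_mul, pow_one]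
  · exact e2
  · calc p * (A ^ 2 * B) = A ^ 2 * (p * B) := by rw [← mul_assoc, e2, mul_assoc]
      _ = A ^ 3 * B * p := by
          rw [h.pB, ← mul_assoc, ← mul_assoc, ← pow_succ]
  · exact e3
  · calc p * (A ^ 3 * B) = A ^ 2 * B * (A * B * p) := by rw [← mul_assoc, e3, mul_assoc, h.pB]
      _ = A ^ 2 * (B * A) * B * p := by simp only [mul_assoc]
      _ = A ^ 2 * A ^ 3 * (B * B) * p := by rw [h.BA]; simp only [mul_assoc]
      _ = A ^ 3 * p := by
          rw [h.sqB, ← pow_two, ← pow_add, ← pow_add, show 2 + 3 + 2 = 4 + 3 from rfl, pow_add, hA4,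
            one_mul]

theorem val_lp (w : Word) : val A B p i (lp w) = p * val A B p i w := by
  obtain ⟨a, b, c, d⟩ := w
  simp only [val, lp]
  rw [add_comm c, pow_fin_add h.cube, show ((1 : Fin 3) : ℕ) = 1 from rfl, pow_one, ← mul_assoc,
    ← h.rot_spec]
  simp only [mul_assoc]

theorem val_mw (w v : Word) : val A B p i (mw w v) = val A B p i w * val A B p i v := by
  have key : ∀ {g : G} {l : Word → Word}, (∀ u, val A B p i (l u) = g * val A B p i u) →
      ∀ (n : ℕ) (u : Word), val A B p i (l^[n] u) = g ^ n * val A B p i u := by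
    intro g l hl n
    induction n with
    | zero => simp
    | succ n ih => intro u; rw [Function.iterate_succ_apply', hl, ih, pow_succ', mul_assoc]
  rw [mw, key h.val_lA, key h.val_lB, key h.val_lp, key h.val_li]
  simp only [val, mul_assoc]

end GLRel

end

/-- The generators in `GL(2,3)`. -/
def mA : GL (Fin 2) (ZMod 3) :=
  ⟨!![0, 2; 1, 0], !![0, 1; 2, 0], by decide +kernel, by decide +kernel⟩

/-- The generators in `GL(2,3)`. -/
def mB : GL (Fin 2) (ZMod 3) :=
  ⟨!![1, 2; 2, 2], !![2, 1; 1, 1], by decide +kernel, by decide +kernel⟩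

/-- The generators in `GL(2,3)`. -/
def mP : GL (Fin 2) (ZMod 3) :=
  ⟨!![0, 2; 1, 2], !![2, 1; 2, 0], by decide +kernel, by decide +kernel⟩

/-- The generators in `GL(2,3)`. -/
def mI : GL (Fin 2) (ZMod 3) :=
  ⟨!![0, 1; 1, 0], !![0, 1; 1, 0], by decide +kernel, by decide +kernel⟩

theorem model_rel : GLRel mA mB mP mI where
  four := by decide +kernel
  sq := by decide +kernel
  sqB := by decide +kernel
  BA := by decide +kernel
  cube := by decide +kernel
  pA := by decide +kernel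
  pB := by decide +kernel
  ii := by decide +kernel
  iA := by decide +kernel
  iB := by decide +kernel
  ip := by decide +kernel

theorem card_gl : Nat.card (GL (Fin 2) (ZMod 3)) = 48 := by
  haveI : Fact (Nat.Prime 3) := ⟨Nat.prime_three⟩
  rw [Matrix.card_GL_field]
  simp [Fin.prod_univ_two]

theorem model_inj : ∀ w v : Word, val mA mB mP mI w = val mA mB mP mI v → w = v := by
  decide +kernel

/-- Elements with these relations and a trivial normal form only at the origin generate `GL(2,3)`. -/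
theorem exists_gl {G : Type u} [Group G] {A B p i : G} (h : GLRel A B p i)
    (hinj : ∀ w : Word, val A B p i w = 1 → w = (0, 0, 0, 0)) {N : Subgroup G} (hA : A ∈ N)
    (hB : B ∈ N) (hp : p ∈ N) (hi : i ∈ N) :
    ∃ K : Subgroup G, K ≤ N ∧ Nonempty (K ≃* GL (Fin 2) (ZMod 3)) := by
  have hbij : Function.Bijective (val mA mB mP mI) :=
    (Nat.bijective_iff_injective_and_card _).2 ⟨fun w v e => model_inj w v e, by rw [card_gl]; simp⟩
  let e := Equiv.ofBijective _ hbij
  let φ : GL (Fin 2) (ZMod 3) →* G := MonoidHom.mk' (fun M => val A B p i (e.symm M)) fun M M' => by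
    obtain ⟨w, rfl⟩ := e.surjective M
    obtain ⟨v, rfl⟩ := e.surjective M'
    have he : e w * e v = e (mw w v) := (model_rel.val_mw w v).symm
    rw [he, Equiv.symm_apply_apply, Equiv.symm_apply_apply, Equiv.symm_apply_apply]
    exact h.val_mw w v
  have hφ : Function.Injective φ := by
    rw [← MonoidHom.ker_eq_bot_iff, Subgroup.eq_bot_iff_forall]
    intro M hM
    obtain ⟨w, rfl⟩ := e.surjective M
    rw [MonoidHom.mem_ker] at hM
    have hw : val A B p i (e.symm (e w)) = 1 := hM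
    rw [Equiv.symm_apply_apply] at hw
    rw [hinj w hw]
    show val mA mB mP mI (0, 0, 0, 0) = 1
    simp [val]
  refine ⟨φ.range, ?_, ⟨(MonoidHom.ofInjective hφ).symm⟩⟩
  rintro _ ⟨M, rfl⟩
  show val A B p i (e.symm M) ∈ N
  exact mul_mem (mul_mem (mul_mem (pow_mem hA _) (pow_mem hB _)) (pow_mem hp _)) (pow_mem hi _)

end Cfsg.Agent.H69.JFourSylow
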