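import Cfsg.Agent.H69.JFourSylow.Classes
import Cfsg.Agent.H69.JFourSylow.GLModel

/-!
A subgroup isomorphic to `GL(2,3)` in the normaliser of the Sylow 11-subgroup.
-/

set_option autoImplicit false

namespace Cfsg.Agent.H69.JFourSylow

open Subgroup Cfsg.Agent.H43.JFour Cfsg.Agent.H43.JFour.Ctx
open scoped Pointwise

universe u v

/-- The normaliser of a subgroup of order 11 in a group of order 443520 with self-centralising
elements of order 11 has order 55; the possible indices. -/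
theorem five_of_mod : ∀ j ∈ Nat.divisors 10, (443520 / (j * 11)) % 11 = 1 → j = 5 := by
  decide +kernel

theorem sq_add_one_ne : ∀ m : ZMod 11, m * m + 1 ≠ 0 := by decide

/-- No element of `M` inverts an element of order 11 of `M`. -/
theorem no_invert {A : Type v} [Group A] [Finite A] {M : Subgroup A} (hM : Nat.card M = 443520)
    (haut : ∀ a : A, orderOf a = 11 → centralizer ({a} : Set A) = zpowers a) {a b : A} (haM : a ∈ M)
    (hbM : b ∈ M) (ha : orderOf a = 11) : b * a * b⁻¹ ≠ a⁻¹ := by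
  haveI : Fact (Nat.Prime 11) := ⟨by norm_num⟩
  intro hinv
  set a' : M := ⟨a, haM⟩ with ha'
  have hao : orderOf a' = 11 := by rw [ha', Subgroup.orderOf_mk, ha]
  set Z := zpowers a' with hZ
  have hcent : centralizer (Z : Set M) = Z := by
    refine le_antisymm (fun g hg => ?_) fun g hg => mem_centralizer_iff.2 fun h hh => ?_
    · have hg' : (g : A) ∈ centralizer ({a} : Set A) := mem_centralizer_singleton_iff.2
        (congrArg Subtype.val (mem_centralizer_iff.1 hg a' (mem_zpowers a'))).symm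
      rw [haut a ha] at hg'
      obtain ⟨k, hk⟩ := mem_zpowers_iff.1 hg'
      exact ⟨k, Subtype.ext (by simpa [ha'] using hk)⟩
    · obtain ⟨i, rfl⟩ := mem_zpowers_iff.1 hg
      obtain ⟨j, rfl⟩ := mem_zpowers_iff.1 hh
      exact zpow_mul_comm a' j i
  set N := normalizer (Z : Set M) with hN
  have h11 : Nat.card Z = 11 := by rw [hZ, Nat.card_zpowers, hao]
  haveI : IsCyclic Z := isCyclic_of_prime_card (p := 11) h11
  have h := Z.normalizerMonoidHom.ker.card_eq_card_quotient_mul_card_subgroup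
  rw [Nat.card_congr (QuotientGroup.quotientKerEquivRange _).toEquiv, Z.normalizerMonoidHom_ker,
    Nat.card_congr (subgroupOfEquivOfLe (centralizer_le_normalizer (Z : Set M))).toEquiv] at h
  rw [show Nat.card (centralizer (Z : Set M)) = 11 by rw [hcent, h11]] at h
  have hd : Nat.card Z.normalizerMonoidHom.range ∣ 10 := by
    refine (card_subgroup_dvd_card _).trans (dvd_of_eq ?_)
    rw [IsCyclic.card_mulAut, h11]; decide
  have hfac : (443520 : ℕ).factorization 11 = 1 := by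
    rw [show (443520 : ℕ) = 11 ^ 1 * 40320 by norm_num,
      Nat.factorization_mul (by norm_num) (by norm_num), Nat.factorization_pow]
    simp [(show Nat.Prime 11 by norm_num).factorization, Nat.factorization_eq_zero_of_not_dvd]
  let S : Sylow 11 M := Sylow.ofCard Z (by rw [h11, hM, hfac, pow_one])
  have hs : Nat.card (Sylow 11 M) % 11 = 1 % 11 := card_sylow_modEq_one 11 M
  rw [Sylow.card_eq_index_normalizer S] at hs
  change N.index % 11 = 1 at hs
  have hci := N.card_mul_index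
  change Nat.card N = _ at h
  rw [h, hM] at hci
  have hj := five_of_mod _ (Nat.mem_divisors.2 ⟨hd, by norm_num⟩)
    (by rw [← hci, Nat.mul_div_cancel_left _ (Nat.mul_pos Nat.card_pos (by norm_num))]; exact hs)
  rw [hj] at h
  set b' : M := ⟨b, hbM⟩ with hb'
  have hinv' : b' * a' * b'⁻¹ = a'⁻¹ := Subtype.ext hinv
  have hbN : b' ∈ N := by
    refine mem_normalizer_iff_map_conj_eq.2 (Subgroup.eq_of_le_of_card_ge ?_
      (le_of_eq (Nat.card_congr (equivMapOfInjective Z _ (MulAut.conj b').injective).toEquiv)))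
    rintro _ ⟨y, hy, rfl⟩
    obtain ⟨k, rfl⟩ := mem_zpowers_iff.1 hy
    rw [map_zpow]
    show (b' * a' * b'⁻¹) ^ k ∈ Z
    rw [hinv']
    exact zpow_mem (inv_mem (mem_zpowers a')) k
  have hodd : Odd (orderOf b') :=
    (show Odd (5 * 11) by decide).of_dvd_nat (h ▸ orderOf_dvd_natCard N hbN)
  obtain ⟨m, hm⟩ := hodd
  have hit : ∀ n : ℕ, b' ^ (2 * n) * a' * (b' ^ (2 * n))⁻¹ = a' := by
    intro n
    induction n with
    | zero => simp
    | succ n ih =>
      rw [show 2 * (n + 1) = 2 + 2 * n by ring, pow_add,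
        show b' ^ 2 * b' ^ (2 * n) * a' * (b' ^ 2 * b' ^ (2 * n))⁻¹ =
          b' ^ 2 * (b' ^ (2 * n) * a' * (b' ^ (2 * n))⁻¹) * (b' ^ 2)⁻¹ by group, ih, pow_two,
        show b' * b' * a' * (b' * b')⁻¹ = b' * (b' * a' * b'⁻¹) * b'⁻¹ by group, hinv',
        show b' * a'⁻¹ * b'⁻¹ = (b' * a' * b'⁻¹)⁻¹ by group, hinv', inv_inv]
  have h1 : a' = a'⁻¹ := by
    calc a' = b' ^ (orderOf b') * a' * (b' ^ (orderOf b'))⁻¹ := by
          rw [pow_orderOf_eq_one, one_mul, inv_one, mul_one]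
      _ = b' * (b' ^ (2 * m) * a' * (b' ^ (2 * m))⁻¹) * b'⁻¹ := by
          rw [hm, pow_succ']; group
      _ = a'⁻¹ := by rw [hit, hinv']
  have h2 : orderOf a' ∣ 2 := orderOf_dvd_of_pow_eq_one (by
    rw [pow_two]; nth_rewrite 2 [h1]; exact mul_inv_cancel a')
  rw [hao] at h2
  norm_num at h2

variable {G : Type u} [Group G] [Finite G] {A : Type v} [Group A] {M : Subgroup A} {c : Ctx G A}

namespace Eleven

variable {x : G} {U : Sylow 11 G} (s : Eleven c M x U)
include s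

theorem comm_mem_Z {u w : G} (hu : u ∈ (U : Subgroup G)) (hw : w ∈ (U : Subgroup G)) :
    u * w * u⁻¹ * w⁻¹ ∈ zpowers x := by
  refine s.centre _ (mul_mem (mul_mem (mul_mem hu hw) (inv_mem hu)) (inv_mem hw)) fun v hv => ?_
  have h : (⟨u * w * u⁻¹ * w⁻¹, mul_mem (mul_mem (mul_mem hu hw) (inv_mem hu)) (inv_mem hw)⟩ :
      (U : Subgroup G)) ∈ center (U : Subgroup G) := by
    rw [← s.extra.1.2.2]
    exact commutator_mem_commutator (mem_top (⟨u, hu⟩ : (U : Subgroup G))) (mem_top ⟨w, hw⟩)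
  exact (congrArg Subtype.val (mem_center_iff.1 h ⟨v, hv⟩)).symm

theorem Z_comm {k : G} (hk : k ∈ zpowers x) {g : G} (hg : g ∈ centralizer ({x} : Set G)) :
    Commute g k := by
  obtain ⟨i, rfl⟩ := mem_zpowers_iff.1 hk
  exact (show Commute g x from mem_centralizer_singleton_iff.1 hg).zpow_right i

theorem z_cent : c.z ∈ centralizer ({x} : Set G) :=
  mem_centralizer_singleton_iff.2 s.at'.z_comm.eq

theorem Z_cube {k : G} (hk : k ∈ zpowers x) (h2 : k * k = 1) : k = 1 := by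
  have h11 : k ^ 11 = 1 := s.exponent k (zpowers_le.2 s.x_mem hk)
  rwa [show 11 = 2 * 5 + 1 from rfl, pow_succ, pow_mul, pow_two, h2, one_pow, one_mul] at h11

/-- The involution `z` inverts `U` modulo its centre. -/
theorem inv_mod {u : G} (hu : u ∈ (U : Subgroup G)) : c.z * u * c.z * u ∈ zpowers x := by
  have hzz := s.env.ok.z_sq
  have hzU : ∀ b ∈ (U : Subgroup G), c.z * b * c.z ∈ (U : Subgroup G) := fun b hb => by
    have := (mem_normalizer_iff.1 (s.cent_norm s.z_cent) b).1 hb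
    rwa [s.env.ok.z_inv] at this
  set v := c.z * u * c.z * u with hv
  have hvU : v ∈ (U : Subgroup G) := mul_mem (hzU u hu) hu
  set k := u * v * u⁻¹ * v⁻¹ with hk
  have hkZ := s.comm_mem_Z hu hvU
  rw [← hk] at hkZ
  have h1 : c.z * v * c.z = k * v := by
    calc c.z * v * c.z = (c.z * c.z) * u * (c.z * u * c.z) := by rw [hv]; group
      _ = u * v * u⁻¹ := by rw [hzz, hv]; group
      _ = k * v := by rw [hk]; group
  have hkk : k * k = 1 := by
    have h2 : c.z * (k * v) * c.z = v := by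
      rw [← h1]
      calc c.z * (c.z * v * c.z) * c.z = (c.z * c.z) * v * (c.z * c.z) := by group
        _ = v := by rw [hzz, one_mul, mul_one]
    have h3 : k * (k * v) = v := by
      calc k * (k * v) = k * (c.z * v * c.z) := by rw [h1]
        _ = c.z * (k * v) * c.z := by
            rw [← mul_assoc, ← mul_assoc, ← (s.Z_comm hkZ s.z_cent).eq]; group
        _ = v := h2
    rw [← mul_assoc] at h3
    exact mul_eq_right.1 h3
  rw [s.Z_cube hkZ hkk, one_mul] at h1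
  rw [← s.inf_H]
  refine mem_inf.2 ⟨hvU, c.mem_H.2 ?_⟩
  calc c.z * v = c.z * v * c.z * c.z := by rw [mul_assoc _ c.z c.z, hzz, mul_one]
    _ = v * c.z := by rw [h1]

theorem norm_inv {i : G} (hix : i * x * i⁻¹ = x⁻¹) : i ∈ normalizer ((U : Subgroup G) : Set G) := by
  rw [s.norm_eq]
  refine mem_normalizer_iff_map_conj_eq.2 (Subgroup.eq_of_le_of_card_ge ?_
    (le_of_eq (Nat.card_congr (equivMapOfInjective (zpowers x) _ (MulAut.conj i).injective).toEquiv)))
  rintro _ ⟨y, hy, rfl⟩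
  obtain ⟨k, rfl⟩ := mem_zpowers_iff.1 hy
  rw [map_zpow]
  show (i * x * i⁻¹) ^ k ∈ zpowers x
  rw [hix]
  exact zpow_mem (inv_mem (mem_zpowers x)) k

/-- An element inverting `x` does not square to `z`. -/
theorem no_sqrt [IsSimpleGroup G] {i : G} (hix : i * x * i⁻¹ = x⁻¹) (hii : i * i = c.z) : False := by
  haveI : Fact (Nat.Prime 11) := ⟨by norm_num⟩
  obtain ⟨u, hu, huZ⟩ := s.exists_noncentral
  have hiN := s.norm_inv hix
  have hiU : ∀ b ∈ (U : Subgroup G), i * b * i⁻¹ ∈ (U : Subgroup G) := fun b hb =>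
    (mem_normalizer_iff.1 hiN b).1 hb
  have hiZ : ∀ k ∈ zpowers x, i * k * i⁻¹ = k⁻¹ := by
    intro k hk
    obtain ⟨n, rfl⟩ := mem_zpowers_iff.1 hk
    rw [← MulAut.conj_apply, map_zpow, MulAut.conj_apply, hix, inv_zpow]
  set v := i * u * i⁻¹ with hv
  have hvU : v ∈ (U : Subgroup G) := hiU u hu
  set w := i * v * i⁻¹ with hw
  have hwu : w * u ∈ zpowers x := by
    have : w = c.z * u * c.z := by
      calc w = (i * i) * u * (i * i)⁻¹ := by rw [hw, hv]; group
        _ = c.z * u * c.z := by rw [hii, s.env.ok.z_inv]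
    rw [this]
    exact s.inv_mod hu
  set e := w * u with he
  have hwe : w = e * u⁻¹ := by rw [he]; group
  have heU : ∀ b ∈ (U : Subgroup G), Commute b e := fun b hb => s.Z_comm hwu (s.le_cent hb)
  set k := u * v * u⁻¹ * v⁻¹ with hk
  have hkZ : k ∈ zpowers x := s.comm_mem_Z hu hvU
  have hkU : ∀ b ∈ (U : Subgroup G), Commute b k := fun b hb => s.Z_comm hkZ (s.le_cent hb)
  have h1 : k⁻¹ = k := by
    calc k⁻¹ = i * k * i⁻¹ := (hiZ k hkZ).symm
      _ = v * w * v⁻¹ * w⁻¹ := by rw [hk, hw, hv]; group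
      _ = (v * e) * u⁻¹ * v⁻¹ * u * e⁻¹ := by rw [hwe]; group
      _ = e * (v * u⁻¹ * v⁻¹ * u) * e⁻¹ := by rw [(heU v hvU).eq]; group
      _ = e * (u⁻¹ * k * u) * e⁻¹ := by rw [hk]; group
      _ = k := by
          rw [mul_assoc u⁻¹ k u, ← (hkU u hu).eq, inv_mul_cancel_left,
            ← (heU k (zpowers_le.2 s.x_mem hkZ)).eq, mul_inv_cancel_right]
  have hk1 : k = 1 := s.Z_cube hkZ (by nth_rewrite 1 [← h1]; exact inv_mul_cancel k)
  have huv : Commute v u := by
    rw [hk] at hk1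
    exact (mul_inv_eq_iff_eq_mul.1 (mul_inv_eq_one.1 hk1)).symm
  have hu11 := s.ord_eleven hu fun h => huZ (h ▸ one_mem _)
  set D := centralizer ({x} : Set G) ⊓ centralizer ({u} : Set G) with hD
  have hux : Commute u x := mem_centralizer_singleton_iff.1 (s.le_cent hu)
  have hn : zpowers u ≤ normalizer (zpowers x : Set G) := le_norm_of_commute fun b hb => by
    obtain ⟨j, rfl⟩ := mem_zpowers_iff.1 hb
    exact hux.symm.zpow_left j
  set R := zpowers x ⊔ zpowers u with hR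
  have hRD : R ≤ D := sup_le
    (zpowers_le.2 (mem_inf.2 ⟨mem_centralizer_singleton_iff.2 rfl, mem_centralizer_singleton_iff.2 hux.symm.eq⟩))
    (zpowers_le.2 (mem_inf.2 ⟨mem_centralizer_singleton_iff.2 hux.eq, mem_centralizer_singleton_iff.2 rfl⟩))
  have hinf : zpowers x ⊓ zpowers u = ⊥ := by
    refine (Subgroup.eq_bot_iff_forall _).2 fun b hb => ?_
    by_contra hb1
    obtain ⟨hbx, hbu⟩ := mem_inf.1 hb
    have e2 := PGroups.zpowers_eq_of_card_eq (p := 11) (by rw [Nat.card_zpowers, hu11]) hbu hb1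
    exact huZ ((zpowers_le.2 hbx) (e2 ▸ mem_zpowers u))
  have hRc : Nat.card R = 121 := by
    have h := H31.FF.card_sup_mul_card_inf hn
    rw [hinf, Subgroup.card_bot, mul_one, Nat.card_zpowers, Nat.card_zpowers, s.x_ord, hu11] at h
    exact h
  have hDR : D = R := (Subgroup.eq_of_le_of_card_ge hRD (hRc ▸ (s.cent_x_le hu huZ).2)).symm
  have hvR : v ∈ R := hDR.le (mem_inf.2 ⟨s.le_cent hvU, mem_centralizer_singleton_iff.2 huv.eq⟩)
  obtain ⟨y, hy, b, hb, hvy⟩ := H43.JFour.exists_mul_of_mem_sup hn hvR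
  obtain ⟨m, rfl⟩ := mem_zpowers_iff.1 hb
  have hw2 : w = y⁻¹ * y ^ m * u ^ (m * m) := by
    have hyu : Commute y u := (s.Z_comm hy (s.le_cent hu)).symm
    calc w = i * (y * u ^ m) * i⁻¹ := by rw [hw, hvy]
      _ = (i * y * i⁻¹) * (i * u * i⁻¹) ^ m := by
          rw [← MulAut.conj_apply, map_mul, map_zpow, MulAut.conj_apply, MulAut.conj_apply]
      _ = y⁻¹ * (y * u ^ m) ^ m := by rw [hiZ y hy, ← hv, hvy]
      _ = _ := by rw [(hyu.zpow_right m).mul_zpow, ← zpow_mul, mul_assoc]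
  have hmem : u ^ (m * m + 1) ∈ zpowers x := by
    have : u ^ (m * m + 1) = (y⁻¹ * y ^ m)⁻¹ * e := by rw [he, hw2, zpow_add, zpow_one]; group
    rw [this]
    exact mul_mem (inv_mem (mul_mem (inv_mem hy) (zpow_mem hy m))) hwu
  have hne : ¬ (11 : ℤ) ∣ m * m + 1 := fun hd => by
    have := (ZMod.intCast_zmod_eq_zero_iff_dvd (m * m + 1) 11).2 hd
    push_cast at this
    exact sq_add_one_ne _ this
  have h1' : u ^ (m * m + 1) ≠ 1 := fun h => hne (by
    have := orderOf_dvd_iff_zpow_eq_one.2 h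
    rwa [hu11] at this)
  have e3 := PGroups.zpowers_eq_of_card_eq (p := 11) (by rw [Nat.card_zpowers, hu11])
    (zpow_mem (mem_zpowers u) (m * m + 1)) h1'
  exact huZ ((zpowers_le.2 hmem) (e3 ▸ mem_zpowers u))

/-- An involution inverting `x` and `P`. -/
theorem exists_outer [IsSimpleGroup G] :
    ∃ i : G, i ∈ c.H ∧ i * i = 1 ∧ i * x * i⁻¹ = x⁻¹ ∧ ∀ p ∈ c.P, i * p * i⁻¹ = p⁻¹ := by
  haveI : Fact (Nat.Prime 3) := ⟨Nat.prime_three⟩
  haveI : Fact (Nat.Prime 2) := ⟨Nat.prime_two⟩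
  haveI : Finite A := s.env.data.finite
  have a := s.at'
  have hx1 : x⁻¹ ≠ 1 := fun h => by
    have := s.x_ord; rw [inv_eq_one.1 h, orderOf_one] at this; omega
  obtain ⟨g, -, hgx⟩ := s.conjSet_x.ge ⟨inv_mem (mem_zpowers x), hx1⟩
  have hgz : Commute (g * c.z * g⁻¹) x := by
    have := (a.z_comm.inv_right).map (MulAut.conj g)
    rw [MulAut.conj_apply, MulAut.conj_apply, show g * x⁻¹ * g⁻¹ = (g * x * g⁻¹)⁻¹ by group, hgx,
      inv_inv] at this
    exact this
  obtain ⟨m, hm, hmz⟩ := s.invol_cent (i := g * c.z * g⁻¹)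
    (by rw [← MulAut.conj_apply, MulEquiv.orderOf_eq, s.env.ok.ord]) hgz
  set g1 := m⁻¹ * g with hg1
  have hg1H : g1 ∈ c.H := c.mem_H.2 (by
    have h1 : g1 * c.z * g1⁻¹ = c.z := by
      calc g1 * c.z * g1⁻¹ = m⁻¹ * (g * c.z * g⁻¹) * m := by rw [hg1]; group
        _ = c.z := by rw [← hmz]; group
    exact (mul_inv_eq_iff_eq_mul.1 h1).symm)
  have hg1x : g1 * x * g1⁻¹ = x⁻¹ := by
    have hmx : Commute m x⁻¹ := (show Commute m x from mem_centralizer_singleton_iff.1 hm).inv_right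
    calc g1 * x * g1⁻¹ = m⁻¹ * (g * x * g⁻¹) * m := by rw [hg1]; group
      _ = x⁻¹ := by rw [hgx, mul_assoc, ← hmx.eq, inv_mul_cancel_left]
  set K := c.H ⊓ centralizer ({x} : Set G) with hK
  have hPK : c.P ≤ K := (le_sup_right (a := QX c x)).trans a.QP_le
  have hconjK : ∀ {h : G}, h ∈ c.H → h * x * h⁻¹ = x⁻¹ → ∀ b ∈ K, h * b * h⁻¹ ∈ K := by
    intro h hh hhx b hb
    refine mem_inf.2 ⟨mul_mem (mul_mem hh (mem_inf.1 hb).1) (inv_mem hh), mem_centralizer_singleton_iff.2 ?_⟩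
    have := ((show Commute b x from mem_centralizer_singleton_iff.1 (mem_inf.1 hb).2).inv_right).map
      (MulAut.conj h)
    rw [MulAut.conj_apply, MulAut.conj_apply, show h * x⁻¹ * h⁻¹ = (h * x * h⁻¹)⁻¹ by group, hhx,
      inv_inv] at this
    exact this.eq
  obtain ⟨p, hp, hp1⟩ := a.ok.exists_p
  have hp3 : orderOf p = 3 := ((Nat.dvd_prime Nat.prime_three).1
    (a.ok.cardP ▸ orderOf_dvd_natCard c.P hp)).resolve_left fun h => hp1 (orderOf_eq_one_iff.1 h)
  obtain ⟨n, hn, hnp⟩ := conj_into (p := 3) (k := 1) (m := 88) (K := K) (Q := c.P) hPK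
    (by rw [a.card_CH]; norm_num) (by norm_num) (by rw [a.ok.cardP, pow_one])
    (hconjK hg1H hg1x p (hPK hp)) (n := 1)
    (by rw [← MulAut.conj_apply, MulEquiv.orderOf_eq, hp3, pow_one])
  set g2 := n⁻¹ * g1 with hg2
  have hg2H : g2 ∈ c.H := mul_mem (inv_mem (mem_inf.1 hn).1) hg1H
  have hg2x : g2 * x * g2⁻¹ = x⁻¹ := by
    have hnx : Commute n x⁻¹ :=
      (show Commute n x from mem_centralizer_singleton_iff.1 (mem_inf.1 hn).2).inv_right
    calc g2 * x * g2⁻¹ = n⁻¹ * (g1 * x * g1⁻¹) * n := by rw [hg2]; group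
      _ = x⁻¹ := by rw [hg1x, mul_assoc, ← hnx.eq, inv_mul_cancel_left]
  have hPgen : zpowers p = c.P := PGroups.zpowers_eq_of_card_eq (p := 3) a.ok.cardP hp hp1
  have hg2P : g2 ∈ normalizer (c.P : Set G) := by
    refine mem_normalizer_iff_map_conj_eq.2 (Subgroup.eq_of_le_of_card_ge ?_
      (le_of_eq (Nat.card_congr (equivMapOfInjective c.P _ (MulAut.conj g2).injective).toEquiv)))
    rintro _ ⟨y, hy, rfl⟩
    rw [← hPgen] at hy
    obtain ⟨k, rfl⟩ := mem_zpowers_iff.1 hy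
    rw [map_zpow]
    refine zpow_mem ?_ k
    show g2 * p * g2⁻¹ ∈ c.P
    rw [show g2 * p * g2⁻¹ = n⁻¹ * (g1 * p * g1⁻¹) * n by rw [hg2]; group]
    exact hnp
  -- the part of 2-power order
  obtain ⟨e, m', hm'2, hord⟩ :=
    Nat.exists_eq_pow_mul_and_not_dvd (orderOf_pos g2).ne' 2 (by norm_num)
  set i := g2 ^ m' with hi
  have hiH : i ∈ c.H := pow_mem hg2H m'
  have hiP : i ∈ normalizer (c.P : Set G) := pow_mem hg2P m'
  have hodd : Odd m' := by
    rw [← Nat.not_even_iff_odd, even_iff_two_dvd]; exact hm'2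
  have hi2 : i ^ (2 ^ e) = 1 := by rw [hi, ← pow_mul, mul_comm, ← hord, pow_orderOf_eq_one]
  have hix : i * x * i⁻¹ = x⁻¹ := by
    have key : ∀ k : ℕ, g2 ^ (2 * k + 1) * x * (g2 ^ (2 * k + 1))⁻¹ = x⁻¹ := by
      intro k
      induction k with
      | zero => simpa using hg2x
      | succ k ih =>
        rw [show 2 * (k + 1) + 1 = 2 + (2 * k + 1) by ring, pow_add,
          show g2 ^ 2 * g2 ^ (2 * k + 1) * x * (g2 ^ 2 * g2 ^ (2 * k + 1))⁻¹ =
            g2 ^ 2 * (g2 ^ (2 * k + 1) * x * (g2 ^ (2 * k + 1))⁻¹) * (g2 ^ 2)⁻¹ by group, ih, pow_two,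
          show g2 * g2 * x⁻¹ * (g2 * g2)⁻¹ = g2 * (g2 * x * g2⁻¹)⁻¹ * g2⁻¹ by group, hg2x, inv_inv,
          hg2x]
    obtain ⟨k, hk⟩ := hodd
    rw [hi, hk]; exact key k
  have hinv : ∀ q ∈ c.P, i * q * i⁻¹ = q⁻¹ := by
    by_cases hc : i * p * i⁻¹ = p
    · exfalso
      have hiC : i ∈ c.C := by
        refine mem_inf.2 ⟨hiH, mem_centralizer_iff.2 fun q hq => ?_⟩
        rw [← hPgen] at hq
        obtain ⟨k, rfl⟩ := mem_zpowers_iff.1 hq
        exact ((show Commute i p from mul_inv_eq_iff_eq_mul.1 hc).zpow_right k).symm.eq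
      have hiM : c.pr i ∈ M := (a.ok.mem_C_iff a.data (c.C_le_Nh hiC)).1 hiC
      have hxM : c.pr x ∈ M := (a.ok.mem_C_iff a.data (c.C_le_Nh a.mem)).1 a.mem
      have hcardM : Nat.card M = 443520 := by
        have := M.card_mul_index
        rw [a.data.index, a.data.card] at this
        omega
      refine no_invert hcardM a.aut hxM hiM a.pr_ord ?_
      rw [← a.ok.pr_inv a.mem_H, ← hix, a.ok.pr_mul _ (mul_mem hiH a.mem_H) _ (inv_mem hiH),
        a.ok.pr_mul _ hiH _ a.mem_H, a.ok.pr_inv hiH]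
    · intro q hq
      have hm : i * p * i⁻¹ ∈ c.P := (mem_normalizer_iff.1 hiP p).1 hp
      have hp' : i * p * i⁻¹ = p⁻¹ := by
        rw [← hPgen] at hm
        obtain ⟨k, hk⟩ := mem_zpowers_iff.1 hm
        rw [← zpow_mod_orderOf, hp3] at hk
        have hk3 : k % (3 : ℕ) = 0 ∨ k % (3 : ℕ) = 1 ∨ k % (3 : ℕ) = 2 := by omega
        rcases hk3 with h | h | h <;> rw [h] at hk
        · exact absurd (conj_eq_one_iff.1 (by rw [← hk, zpow_zero])) hp1
        · exact absurd (by rw [← hk, zpow_one]) hc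
        · rw [← hk, eq_inv_iff_mul_eq_one]
          calc p ^ (2 : ℤ) * p = p ^ 3 := by group
            _ = 1 := by rw [← hp3, pow_orderOf_eq_one]
      rw [← hPgen] at hq
      obtain ⟨k, rfl⟩ := mem_zpowers_iff.1 hq
      rw [← MulAut.conj_apply, map_zpow, MulAut.conj_apply, hp', inv_zpow]
  refine ⟨i, hiH, ?_, hix, hinv⟩
  -- the square
  have hjx : Commute (i * i) x := by
    show i * i * x = x * (i * i)
    rw [← mul_inv_eq_iff_eq_mul, show i * i * x * (i * i)⁻¹ = i * (i * x * i⁻¹) * i⁻¹ by group, hix,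
      show i * x⁻¹ * i⁻¹ = (i * x * i⁻¹)⁻¹ by group, hix, inv_inv]
  have hjK : i * i ∈ K := mem_inf.2 ⟨mul_mem hiH hiH, mem_centralizer_singleton_iff.2 hjx.eq⟩
  have hjord : ∃ r, orderOf (i * i) = 2 ^ r := by
    have : orderOf (i * i) ∣ 2 ^ e := orderOf_dvd_of_pow_eq_one (by
      rw [← pow_two, ← pow_mul, mul_comm, pow_mul, hi2, one_pow])
    obtain ⟨r, -, hr⟩ := (Nat.dvd_prime_pow Nat.prime_two).1 this
    exact ⟨r, hr⟩
  obtain ⟨r, hr⟩ := hjord
  obtain ⟨d, hd, hdQ⟩ := conj_into (p := 2) (k := 3) (m := 33) (K := K) (Q := QX c x)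
    (le_sup_left.trans a.QP_le) (by rw [a.card_CH]; norm_num) (by norm_num)
    (by rw [a.card_Q]; norm_num) hjK (n := r) hr
  have hjQ : i * i ∈ QX c x := by
    rw [show i * i = d * (d⁻¹ * (i * i) * d) * d⁻¹ by group]
    obtain ⟨hbE, hbx⟩ := mem_inf.1 hdQ
    exact mem_inf.2 ⟨a.ok.conjE (mem_inf.1 hd).1 hbE,
      mul_mem (mul_mem (mem_inf.1 hd).2 hbx) (inv_mem (mem_inf.1 hd).2)⟩
  have hjp : p * (i * i) * p⁻¹ = i * i := by
    have : i * i * p * (i * i)⁻¹ = p := by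
      rw [show i * i * p * (i * i)⁻¹ = i * (i * p * i⁻¹) * i⁻¹ by group, hinv p hp,
        hinv _ (inv_mem hp), inv_inv]
    rw [mul_inv_eq_iff_eq_mul] at this ⊢
    exact this.symm
  rcases H54.JFour.fixP_vec a.ok hp hp1 (mem_inf.1 hjQ).1 (Or.inl hjp) with h | h
  · exact h
  · exact absurd h fun h => s.no_sqrt hix h

omit s in
theorem conj_cube {p a : G} (hp : p ^ 3 = 1) :
    p * (p * (p * a * p⁻¹) * p⁻¹) * p⁻¹ = a := by
  calc p * (p * (p * a * p⁻¹) * p⁻¹) * p⁻¹ = p * p * p * a * (p * p * p)⁻¹ := by group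
    _ = a := by rw [← pow_three', hp, one_mul, inv_one, mul_one]

/-- The cosets of `⟨z⟩` in `Q`. -/
theorem coset {p q : G} (hp : p ∈ c.P) (hp1 : p ≠ 1) (hq : q ∈ QX c x) (hq1 : q ≠ 1) (hqz : q ≠ c.z)
    {y : G} (hy : y ∈ QX c x) (hy1 : y ≠ 1) (hyz : y ≠ c.z) :
    ∃ e : G, (e = 1 ∨ e = c.z) ∧
      (y = q * e ∨ y = p * q * p⁻¹ * e ∨ y = p * (p * q * p⁻¹) * p⁻¹ * e) := by
  have a := s.at'
  have hp3 : p ^ 3 = 1 := orderOf_dvd_iff_pow_eq_one.1 (a.ok.cardP ▸ orderOf_dvd_natCard c.P hp)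
  have hz : Commute p c.z := (c.mem_H.1 (a.ok.P_le hp)).symm
  set b := p * q * p⁻¹ with hb
  set d := p * b * p⁻¹ with hd
  have hfix : ∀ q' : G, q' ∈ QX c x → q' ≠ 1 → q' ≠ c.z →
      p * q' * p⁻¹ ≠ q' ∧ p * q' * p⁻¹ ≠ q' * c.z := fun q' h h1 h2 =>
    ⟨fun e => (H54.JFour.fixP_vec a.ok hp hp1 (mem_inf.1 h).1 (Or.inl e)).elim h1 h2,
     fun e => (H54.JFour.fixP_vec a.ok hp hp1 (mem_inf.1 h).1 (Or.inr e)).elim h1 h2⟩
  have hnc : ∀ q' : G, q' ≠ 1 → q' ≠ c.z → p * q' * p⁻¹ ≠ 1 ∧ p * q' * p⁻¹ ≠ c.z := fun q' h1 h2 =>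
    ⟨fun e => h1 (conj_eq_one_iff.1 e), fun e => h2 (mul_left_cancel (mul_right_cancel (e.trans (by
      rw [hz.eq, mul_inv_cancel_right]))))⟩
  have hbQ := a.P_conj_Q hp hq
  have hdQ := a.P_conj_Q hp hbQ
  obtain ⟨hb1, hbz⟩ := hnc q hq1 hqz
  obtain ⟨hd1, hdz⟩ := hnc b hb1 hbz
  let w : Fin 4 → QX c x := ![1, ⟨q, hq⟩, ⟨b, hbQ⟩, ⟨d, hdQ⟩]
  let f : Fin 4 × Fin 2 → QX c x := fun t => w t.1 * ⟨c.z, a.z_mem_Q⟩ ^ (t.2 : ℕ)
  have hzz := a.ok.z_sq
  have qd : q ≠ d ∧ q ≠ d * c.z := by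
    constructor
    · intro e
      refine (hfix q hq hq1 hqz).1 ?_
      conv_lhs => rw [e]
      rw [hd, hb, conj_cube hp3]
    · intro e
      have h1 : p * q * p⁻¹ = q * c.z := by
        conv_lhs => rw [e]
        calc p * (d * c.z) * p⁻¹ = (p * d * p⁻¹) * (p * c.z * p⁻¹) := by group
          _ = q * c.z := by rw [hd, hb, conj_cube hp3, hz.eq, mul_inv_cancel_right]
      exact (hfix q hq hq1 hqz).2 h1
  have flip : ∀ {u v : G}, u ≠ v * c.z → v ≠ u * c.z := fun {u v} h e => h (by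
    rw [e, mul_assoc, hzz, mul_one])
  have hf : Function.Injective f := by
    rintro ⟨j, k⟩ ⟨j', k'⟩ e
    have e' : ((w j : QX c x) : G) * c.z ^ (k : ℕ) = (w j' : QX c x) * c.z ^ (k' : ℕ) :=
      congrArg Subtype.val e
    have h1 := (hfix q hq hq1 hqz)
    have h2 := (hfix b hbQ hb1 hbz)
    rw [← hb] at h1
    rw [← hd] at h2
    fin_cases j <;> fin_cases j' <;> fin_cases k <;> fin_cases k' <;>
      simp [w] at e' ⊢ <;>
      first
      | exact absurd e' hq1 | exact absurd e'.symm hq1 | exact absurd e' hb1 | exact absurd e'.symm hb1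
      | exact absurd e' hd1 | exact absurd e'.symm hd1
      | exact absurd e' hqz | exact absurd e'.symm hqz | exact absurd e' hbz | exact absurd e'.symm hbz
      | exact absurd e' hdz | exact absurd e'.symm hdz
      | exact absurd e' h1.1 | exact absurd e'.symm h1.1 | exact absurd e' h2.1 | exact absurd e'.symm h2.1
      | exact absurd e' qd.1 | exact absurd e'.symm qd.1
      | exact absurd e' h1.2 | exact absurd e'.symm h1.2 | exact absurd e' h2.2 | exact absurd e'.symm h2.2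
      | exact absurd e' qd.2 | exact absurd e'.symm qd.2
      | exact absurd e' (flip h1.2) | exact absurd e'.symm (flip h1.2)
      | exact absurd e' (flip h2.2) | exact absurd e'.symm (flip h2.2)
      | exact absurd e' (flip qd.2) | exact absurd e'.symm (flip qd.2)
      | exact absurd e' a.ok.z_ne | exact absurd e'.symm a.ok.z_ne
      | exact absurd (mul_eq_right.1 e') hq1 | exact absurd (mul_eq_right.1 e') hb1
      | exact absurd (mul_eq_right.1 e') hd1
      | exact absurd (mul_eq_left.1 e') a.ok.z_ne | exact absurd (mul_eq_left.1 e'.symm) a.ok.z_ne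
      | exact absurd (eq_inv_of_mul_eq_one_left e') (by rw [a.ok.z_inv]; assumption)
      | exact absurd (eq_inv_of_mul_eq_one_left e'.symm) (by rw [a.ok.z_inv]; assumption)
  haveI := Fintype.ofFinite (QX c x)
  have hbij := (Fintype.bijective_iff_injective_and_card f).2 ⟨hf, by
    rw [Fintype.card_prod, Fintype.card_fin, Fintype.card_fin, ← Nat.card_eq_fintype_card]
    exact a.card_Q.symm⟩
  obtain ⟨⟨j, k⟩, hjk⟩ := hbij.2 ⟨y, hy⟩
  have hval : ((w j : QX c x) : G) * c.z ^ (k : ℕ) = y := congrArg Subtype.val hjk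
  refine ⟨c.z ^ (k : ℕ), ?_, ?_⟩
  · fin_cases k <;> simp
  · fin_cases j
    · exfalso
      fin_cases k <;> simp [w] at hval
      · exact hy1 hval.symm
      · exact hyz hval.symm
    · exact Or.inl hval.symm
    · exact Or.inr (Or.inl hval.symm)
    · exact Or.inr (Or.inr hval.symm)

/-- The subgroup isomorphic to `GL(2,3)`. -/
theorem exists_gl_two [IsSimpleGroup G] :
    ∃ K : Subgroup G, K ≤ normalizer ((U : Subgroup G) : Set G) ∧
      Nonempty (K ≃* GL (Fin 2) (ZMod 3)) := by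
  obtain ⟨i, hiH, hii, hix, hiP⟩ := s.exists_outer
  have a := s.at'
  have hi' : i⁻¹ = i := inv_eq_of_mul_eq_one_left hii
  obtain ⟨p0, hp0, hp01⟩ := a.ok.exists_p
  have hiz : Commute i c.z := (c.mem_H.1 hiH).symm
  have hiQ : ∀ q ∈ QX c x, i * q * i⁻¹ ∈ QX c x := fun q hq => by
    refine mem_inf.2 ⟨a.ok.conjE hiH (mem_inf.1 hq).1, mem_centralizer_singleton_iff.2 ?_⟩
    have := (show Commute q x from mem_centralizer_singleton_iff.1 (mem_inf.1 hq).2).inv_right.map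
      (MulAut.conj i)
    rw [MulAut.conj_apply, MulAut.conj_apply, show i * x⁻¹ * i⁻¹ = (i * x * i⁻¹)⁻¹ by group, hix,
      inv_inv] at this
    exact this.eq
  have hinc : ∀ q : G, q ≠ 1 → q ≠ c.z → i * q * i⁻¹ ≠ 1 ∧ i * q * i⁻¹ ≠ c.z := fun q h1 h2 =>
    ⟨fun e => h1 (conj_eq_one_iff.1 e), fun e => h2 (mul_left_cancel (mul_right_cancel (e.trans (by
      rw [hiz.eq, mul_inv_cancel_right]))))⟩
  have hpz : ∀ {p : G}, p ∈ c.P → Commute p c.z := fun hp => (c.mem_H.1 (a.ok.P_le hp)).symm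
  have hpcube : ∀ {p : G}, p ∈ c.P → p ^ 3 = 1 := fun hp =>
    orderOf_dvd_iff_pow_eq_one.1 (a.ok.cardP ▸ orderOf_dvd_natCard c.P hp)
  have hpnc : ∀ {p : G}, p ∈ c.P → ∀ q : G, q ≠ 1 → q ≠ c.z →
      p * q * p⁻¹ ≠ 1 ∧ p * q * p⁻¹ ≠ c.z := fun hp q h1 h2 =>
    ⟨fun e => h1 (conj_eq_one_iff.1 e), fun e => h2 (mul_left_cancel (mul_right_cancel (e.trans (by
      rw [(hpz hp).eq, mul_inv_cancel_right]))))⟩
  have hic : ∀ {p : G}, p ∈ c.P → ∀ q : G,
      i * (p * q * p⁻¹) * i⁻¹ = p⁻¹ * (i * q * i⁻¹) * p := fun {p} hp q => by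
    rw [show i * (p * q * p⁻¹) * i⁻¹ = (i * p * i⁻¹) * (i * q * i⁻¹) * (i * p * i⁻¹)⁻¹ by group,
      hiP p hp, inv_inv]
  have hze : ∀ {p e : G}, p ∈ c.P → (e = 1 ∨ e = c.z) → Commute p e := fun {p e} hp he => by
    rcases he with rfl | rfl
    · exact Commute.one_right p
    · exact hpz hp
  -- an element fixed modulo `z` by the involution
  obtain ⟨q0, hq0, q0', hq0', hnc⟩ := a.exists_noncomm
  have hq01 : q0 ≠ 1 := fun e => hnc (by rw [e, one_mul, mul_one])
  have hq0z : q0 ≠ c.z := fun e => hnc (by rw [e]; exact a.ok.z_comm (mem_inf.1 hq0').1)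
  obtain ⟨A, hA, hA1, hAz, e, he, hiA⟩ : ∃ A ∈ QX c x, A ≠ 1 ∧ A ≠ c.z ∧
      ∃ e : G, (e = 1 ∨ e = c.z) ∧ i * A * i⁻¹ = A * e := by
    have hbQ := a.P_conj_Q hp0 hq0
    have hdQ := a.P_conj_Q hp0 hbQ
    obtain ⟨hb1, hbz⟩ := hpnc hp0 q0 hq01 hq0z
    obtain ⟨hd1, hdz⟩ := hpnc hp0 _ hb1 hbz
    obtain ⟨hy1, hyz⟩ := hinc q0 hq01 hq0z
    obtain ⟨e, he, h | h | h⟩ := s.coset hp0 hp01 hq0 hq01 hq0z (hiQ q0 hq0) hy1 hyz
    · exact ⟨q0, hq0, hq01, hq0z, e, he, h⟩
    · refine ⟨_, hdQ, hd1, hdz, e, he, ?_⟩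
      rw [hic hp0, hic hp0, h]
      have hce := hze hp0 he
      calc p0⁻¹ * (p0⁻¹ * (p0 * q0 * p0⁻¹ * e) * p0) * p0
          = p0⁻¹ * q0 * p0⁻¹ * (e * p0 * p0) := by group
        _ = p0⁻¹ * q0 * p0⁻¹ * (p0 * p0 * e) := by
            rw [(mul_assoc e p0 p0).trans (hce.mul_left hce).symm.eq]
        _ = (p0⁻¹ * q0 * p0) * e := by group
        _ = _ := by
            conv_lhs => rw [← conj_cube (a := q0) (hpcube hp0)]
            group
    · refine ⟨_, hbQ, hb1, hbz, e, he, ?_⟩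
      rw [hic hp0, h]
      calc p0⁻¹ * (p0 * (p0 * q0 * p0⁻¹) * p0⁻¹ * e) * p0
          = (p0 * q0 * p0⁻¹) * p0⁻¹ * (e * p0) := by group
        _ = _ := by rw [← (hze hp0 he).eq]; group
  -- the orientation
  have hBA : ∀ {p : G}, p ∈ c.P → p ≠ 1 →
      (p * A * p⁻¹) * A = c.z * (A * (p * A * p⁻¹)) ∧
      ∃ f : G, (f = 1 ∨ f = c.z) ∧ A * (p * A * p⁻¹) = p * (p * A * p⁻¹) * p⁻¹ * f := by
    intro p hp hp1
    have hB := a.P_conj_Q hp hA
    obtain ⟨hB1, hBz⟩ := hpnc hp A hA1 hAz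
    set B := p * A * p⁻¹ with hBdef
    have hfix : B ≠ A ∧ B ≠ A * c.z :=
      ⟨fun e => (H54.JFour.fixP_vec a.ok hp hp1 (mem_inf.1 hA).1 (Or.inl e)).elim hA1 hAz,
       fun e => (H54.JFour.fixP_vec a.ok hp hp1 (mem_inf.1 hA).1 (Or.inr e)).elim hA1 hAz⟩
    have hAA := a.sq_eq_z hA hA1 hAz
    have hBB := a.sq_eq_z hB hB1 hBz
    have hAB1 : A * B ≠ 1 := fun e => hfix.2 (by
      have h1 : A * (B * c.z) = c.z := by rw [← mul_assoc, e, one_mul]
      rw [← hAA] at h1 ⊢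
      calc B = B * (A * A) * (A * A) := by rw [hAA, mul_assoc, a.ok.z_sq, mul_one]
        _ = A * (A * A) := by rw [mul_left_cancel h1])
    have hABz : A * B ≠ c.z := fun e => hfix.1 (mul_left_cancel (e.trans hAA.symm))
    refine ⟨?_, ?_⟩
    · rcases a.ok.swap (mem_inf.1 hB).1 (mem_inf.1 hA).1 with h | h
      · exfalso
        have h2 : (A * B) * (A * B) = 1 := by
          calc (A * B) * (A * B) = A * (B * A) * B := by group
            _ = (A * A) * (B * B) := by rw [h]; group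
            _ = 1 := by rw [hAA, hBB, a.ok.z_sq]
        rw [a.sq_eq_z (mul_mem hA hB) hAB1 hABz] at h2
        exact a.ok.z_ne h2
      · exact h
    · obtain ⟨f, hf, h | h | h⟩ := s.coset hp hp1 hA hA1 hAz (mul_mem hA hB) hAB1 hABz
      · exfalso
        rcases hf with rfl | rfl
        · exact hB1 (mul_eq_left.1 (h.trans (mul_one A)))
        · exact hBz (mul_left_cancel h)
      · exfalso
        rcases hf with rfl | rfl
        · exact hA1 (mul_eq_right.1 (h.trans (mul_one _)))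
        · refine hAz (mul_right_cancel (h.trans ?_))
          exact (a.ok.z_comm (mem_inf.1 hB).1).symm
      · exact ⟨f, hf, h⟩
  obtain ⟨p, hp, hp1, hC⟩ : ∃ p ∈ c.P, p ≠ 1 ∧
      p * (p * A * p⁻¹) * p⁻¹ = A * (p * A * p⁻¹) := by
    obtain ⟨h1, f, hf, h2⟩ := hBA hp0 hp01
    rcases hf with rfl | rfl
    · exact ⟨p0, hp0, hp01, by rw [h2, mul_one]⟩
    · refine ⟨p0⁻¹, inv_mem hp0, fun e => hp01 (inv_eq_one.1 e), ?_⟩
      set B := p0 * A * p0⁻¹ with hB
      set D := p0 * B * p0⁻¹ with hD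
      have hcyc : p0 * D * p0⁻¹ = A := by rw [hD, hB, conj_cube (hpcube hp0)]
      have e1 : p0⁻¹ * A * p0⁻¹⁻¹ = D := by
        conv_lhs => rw [← hcyc]
        group
      have e2 : p0⁻¹ * D * p0⁻¹⁻¹ = B := by rw [hD]; group
      rw [e1, e2]
      clear_value D B
      have hDz : D = A * B * c.z := by rw [h2, mul_assoc, a.ok.z_sq, mul_one]
      have hAA := a.sq_eq_z hA hA1 hAz
      have hBQ := a.P_conj_Q hp0 hA
      rw [← hB] at hBQ
      calc B = c.z * c.z * B := by rw [a.ok.z_sq, one_mul]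
        _ = (A * A) * (c.z * B) := by rw [hAA, mul_assoc]
        _ = A * (A * B * c.z) := by rw [a.ok.z_comm (mem_inf.1 hBQ).1]; group
        _ = A * D := by rw [hDz]
  obtain ⟨hBA', -⟩ := hBA hp hp1
  set B := p * A * p⁻¹ with hB
  have hBQ : B ∈ QX c x := a.P_conj_Q hp hA
  obtain ⟨hB1, hBz⟩ := hpnc hp A hA1 hAz
  have hAA := a.sq_eq_z hA hA1 hAz
  have hBB := a.sq_eq_z hBQ hB1 hBz
  have hA3 : A ^ 3 = A * c.z := by rw [pow_succ' A 2, pow_two, hAA]
  have hzA := a.ok.z_comm (mem_inf.1 hA).1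
  have hzB := a.ok.z_comm (mem_inf.1 hBQ).1
  have hp3 := hpcube hp
  have hcyc : p * (A * B) * p⁻¹ = A := by rw [← hC, hB, conj_cube hp3]
  have hinvA : p⁻¹ * A * p = A * B := by
    conv_lhs => rw [← hcyc]
    group
  have hiB : i * B * i⁻¹ = A * B * e := by
    rw [hB, hic hp, hiA, ← hB]
    calc p⁻¹ * (A * e) * p = p⁻¹ * A * (e * p) := by group
      _ = (p⁻¹ * A * p) * e := by rw [← (hze hp he).eq]; group
      _ = A * B * e := by rw [hinvA]
  have hez : e = c.z := by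
    rcases he with rfl | rfl
    · exfalso
      rw [mul_one] at hiA hiB
      have e1 : i * (A * B) * i⁻¹ = B := by
        rw [← hC, hic hp, hiB, ← hC]; group
      have e2 : i * (A * B) * i⁻¹ = c.z * B := by
        calc i * (A * B) * i⁻¹ = (i * A * i⁻¹) * (i * B * i⁻¹) := by group
          _ = c.z * B := by rw [hiA, hiB, ← mul_assoc, hAA]
      exact a.ok.z_ne (mul_eq_right.1 (e2.symm.trans e1))
    · rfl
  subst hez
  have hrel : GLRel A B p i := by
    refine ⟨?_, ?_, ?_, ?_, hp3, ?_, ?_, hii, ?_, ?_, ?_⟩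
    · rw [show 4 = 2 * 2 from rfl, pow_mul, pow_two, pow_two, hAA, a.ok.z_sq]
    · rw [hAA]; exact a.ok.z_ne
    · rw [hAA, hBB]
    · rw [hBA', hA3, ← mul_assoc, hzA]
    · rw [hB, inv_mul_cancel_right]
    · rw [← hC, inv_mul_cancel_right]
    · rw [← mul_inv_eq_iff_eq_mul, hiA, hA3]
    · rw [← mul_inv_eq_iff_eq_mul, hiB, hA3]
      exact ((mul_assoc A B c.z).trans (congrArg (A * ·) hzB.symm)).trans (mul_assoc A c.z B).symm
    · rw [← mul_inv_eq_iff_eq_mul, hiP p hp, inv_eq_iff_mul_eq_one, ← pow_succ']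
      exact hp3
  have hQC : ∀ {q : G}, q ∈ QX c x → q ∈ centralizer ({x} : Set G) := fun hq => (mem_inf.1 hq).2
  have hpC : p ∈ centralizer ({x} : Set G) := mem_centralizer_singleton_iff.2 (a.P_comm hp).eq
  refine exists_gl hrel ?_ (s.cent_norm (hQC hA)) (s.cent_norm (hQC hBQ)) (s.cent_norm hpC)
    (s.norm_inv hix)
  rintro ⟨k, l, m, n⟩ hw
  simp only [val] at hw
  set T := A ^ (k : ℕ) * B ^ (l : ℕ) * p ^ (m : ℕ) with hT
  have hTC : T ∈ centralizer ({x} : Set G) :=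
    mul_mem (mul_mem (pow_mem (hQC hA) _) (pow_mem (hQC hBQ) _)) (pow_mem hpC _)
  have hn : n = 0 := by
    fin_cases n
    · rfl
    · exfalso
      have hiT : i ∈ centralizer ({x} : Set G) := by
        rw [show i = T⁻¹ from eq_inv_of_mul_eq_one_right (by simpa using hw)]
        exact inv_mem hTC
      have h1 : x = x⁻¹ := by
        conv_rhs => rw [← hix]
        rw [(show Commute i x from mem_centralizer_singleton_iff.1 hiT).eq, mul_inv_cancel_right]
      have : orderOf x ∣ 2 := orderOf_dvd_of_pow_eq_one (by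
        rw [pow_two]; nth_rewrite 2 [h1]; exact mul_inv_cancel x)
      rw [s.x_ord] at this; norm_num at this
  subst hn
  simp only [Fin.val_zero, pow_zero, mul_one, hT] at hw
  have hq : A ^ (k : ℕ) * B ^ (l : ℕ) ∈ QX c x := mul_mem (pow_mem hA _) (pow_mem hBQ _)
  have hpm : p ^ (m : ℕ) = 1 := by
    have h1 : p ^ (m : ℕ) ∈ QX c x := by
      rw [eq_inv_of_mul_eq_one_right hw]; exact inv_mem hq
    refine orderOf_eq_one_iff.1 (Nat.eq_one_of_dvd_coprimes (by decide : Nat.Coprime 3 8) ?_ ?_)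
    · exact (orderOf_dvd_natCard c.P (pow_mem hp _)).trans (dvd_of_eq a.ok.cardP)
    · exact (orderOf_dvd_natCard _ h1).trans (dvd_of_eq a.card_Q)
  have hm : m = 0 := by
    fin_cases m
    · rfl
    · simp at hpm; exact absurd hpm hp1
    · exfalso
      refine hp1 ?_
      have : p ^ 3 = p ^ 2 * p := pow_succ p 2
      rw [hp3, show p ^ 2 = 1 from by simpa using hpm, one_mul] at this
      exact this.symm
  subst hm
  simp only [Fin.val_zero, pow_zero, mul_one] at hw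
  have hl : l = 0 := by
    fin_cases l
    · rfl
    · exfalso
      have hBk : B = (A ^ (k : ℕ))⁻¹ := eq_inv_of_mul_eq_one_right (by simpa using hw)
      have hc : Commute A B := by
        rw [hBk]; exact ((Commute.refl A).pow_right _).inv_right
      rw [hc.eq] at hBA'
      exact a.ok.z_ne (mul_eq_right.1 hBA'.symm)
  subst hl
  simp only [Fin.val_zero, pow_zero, mul_one] at hw
  have hk : k = 0 := by
    fin_cases k
    · rfl
    · exact absurd (by simpa using hw) hA1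
    · exfalso
      refine a.ok.z_ne ?_
      rw [← hAA, ← pow_two]; simpa using hw
    · exfalso
      refine hA1 ?_
      have : A ^ 4 = A ^ 3 * A := pow_succ A 3
      rw [hrel.four, show A ^ 3 = 1 from by simpa using hw, one_mul] at this
      exact this.symm
  rw [hk]

end Eleven

end Cfsg.Agent.H69.JFourSylow
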