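import Cfsg.Agent.H69.JFourSylow.AutEleven
import Cfsg.Agent.H43.J4.Main
import Cfsg.Agent.H54.JFour.Space
import Cfsg.Agent.H54.JFour.Pre
import Cfsg.Agent.H31.FFPlane

/-!
An element of order 11 of `C`: its centraliser in `H` is `⟨x⟩ × SL(2,3)`.
-/

set_option autoImplicit false

namespace Cfsg.Agent.H69.JFourSylow

open Subgroup Cfsg.Agent.H43.JFour Cfsg.Agent.H43.JFour.Ctx

universe u v

variable {G : Type u} [Group G] [Finite G] {A : Type v} [Group A] {M : Subgroup A} {c : Ctx G A}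

/-- The local hypotheses at an element of order 11. -/
structure At (c : Ctx G A) (M : Subgroup A) (x : G) : Prop where
  ok : c.Ok
  data : AutData A M
  aut : ∀ a : A, orderOf a = 11 → centralizer ({a} : Set A) = zpowers a
  mem : x ∈ c.C
  ord : orderOf x = 11

/-- The part of `E` centralising `x`. -/
def QX (c : Ctx G A) (x : G) : Subgroup G := c.E ⊓ centralizer ({x} : Set G)

namespace At

variable {x : G} (a : At c M x)
include a

omit [Finite G] in
theorem mem_H : x ∈ c.H := (mem_inf.1 a.mem).1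

omit [Finite G] in
theorem pow_eleven : x ^ 11 = 1 := by rw [← a.ord, pow_orderOf_eq_one]

omit [Finite G] in
theorem z_comm : Commute c.z x := c.mem_H.1 a.mem_H

theorem P_comm {p : G} (hp : p ∈ c.P) : Commute p x := a.ok.P_central hp a.mem

theorem pr_ord : orderOf (c.pr x) = 11 := by
  haveI : Fact (Nat.Prime 11) := ⟨by norm_num⟩
  refine orderOf_eq_prime ?_ fun e => ?_
  · rw [show c.pr x = a.ok.prHom ⟨x, a.mem_H⟩ from rfl, ← map_pow,
      show (⟨x, a.mem_H⟩ : c.H) ^ 11 = 1 from Subtype.ext a.pow_eleven, map_one]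
  · obtain ⟨p, hp, h⟩ := a.ok.C_ker a.mem e
    have hp3 : p ^ 3 = 1 := orderOf_dvd_iff_pow_eq_one.1 (a.ok.cardP ▸ orderOf_dvd_natCard c.P hp)
    have h6 : x ^ 6 = 1 := by
      rcases h with rfl | rfl
      · rw [show 6 = 3 * 2 from rfl, pow_mul, hp3, one_pow]
      · rw [(show Commute c.z p from c.mem_H.1 (a.ok.P_le hp)).mul_pow, show c.z ^ 6 = (c.z ^ 2) ^ 3 from
          (pow_mul _ 2 3), pow_two, a.ok.z_sq, one_pow, one_mul,
          show p ^ 6 = (p ^ 3) ^ 2 from (pow_mul _ 3 2), hp3, one_pow]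
    have := orderOf_dvd_of_pow_eq_one h6
    rw [a.ord] at this
    norm_num at this

omit [Finite G] in
theorem z_mem_Q : c.z ∈ QX c x :=
  mem_inf.2 ⟨a.ok.z_mem, mem_centralizer_singleton_iff.2 a.z_comm.eq⟩

theorem card_Q : Nat.card (QX c x) = 8 := by
  haveI : Fact (Nat.Prime 11) := ⟨by norm_num⟩
  haveI : Fact (Nat.Prime 2) := ⟨Nat.prime_two⟩
  let φ : c.E → c.E := fun b => ⟨x * b * x⁻¹, a.ok.conjE a.mem_H b.2⟩
  have hit : ∀ n : ℕ, ∀ b : c.E, ((φ^[n] b : c.E) : G) = x ^ n * b * (x ^ n)⁻¹ := by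
    intro n
    induction n with
    | zero => simp
    | succ n ih =>
      intro b
      rw [Function.iterate_succ_apply']
      show x * (φ^[n] b : c.E) * x⁻¹ = _
      rw [ih b, pow_succ']; group
  have h11 : φ^[11] = id := funext fun b => Subtype.ext (by rw [hit, a.pow_eleven]; simp)
  have hm := H54.JFour.card_mod_fixed φ h11
  have hfix : Nat.card {b : c.E // φ b = b} = Nat.card (QX c x) := Nat.card_congr
    { toFun := fun b => ⟨b.1, mem_inf.2 ⟨b.1.2, mem_centralizer_singleton_iff.2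
        (mul_inv_eq_iff_eq_mul.1 (congrArg Subtype.val b.2)).symm⟩⟩
      invFun := fun b => ⟨⟨b, (mem_inf.1 b.2).1⟩, Subtype.ext (mul_inv_eq_iff_eq_mul.2
        (mem_centralizer_singleton_iff.1 (mem_inf.1 b.2).2).symm)⟩
      left_inv := fun b => rfl
      right_inv := fun b => rfl }
  rw [hfix, a.ok.cardE] at hm
  have hle : QX c x ≤ c.E := inf_le_left
  obtain ⟨k, hk13, hk⟩ := (Nat.dvd_prime_pow Nat.prime_two).1
    (a.ok.cardE ▸ card_dvd_of_le hle)
  have hne : Nat.card (QX c x) ≠ 2 ^ 13 := fun h => by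
    have he : QX c x = c.E := Subgroup.eq_of_le_of_card_ge hle (by rw [h, a.ok.cardE])
    have hx : x ∈ c.E := a.ok.cent x a.mem_H fun b hb =>
      (mem_centralizer_singleton_iff.1 (mem_inf.1 (show b ∈ QX c x from he.symm ▸ hb)).2).symm
    have := orderOf_dvd_natCard c.E hx
    rw [a.ord, a.ok.cardE] at this
    norm_num at this
  rw [hk] at hm hne ⊢
  have hall : ∀ j < 14, (2 ^ 13 : ℕ) % 11 = 2 ^ j % 11 → j = 3 ∨ j = 13 := by decide +kernel
  rcases hall k (by omega) hm with rfl | rfl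
  · rfl
  · exact absurd rfl hne

/-- A non-central element of `Q` and the normalisation of `Q` by `P`. -/
theorem P_conj_Q {p b : G} (hp : p ∈ c.P) (hb : b ∈ QX c x) : p * b * p⁻¹ ∈ QX c x := by
  obtain ⟨hbE, hbx⟩ := mem_inf.1 hb
  refine mem_inf.2 ⟨a.ok.conjE (a.ok.P_le hp) hbE, mem_centralizer_singleton_iff.2 ?_⟩
  exact ((((a.P_comm hp).mul_left (show Commute b x from mem_centralizer_singleton_iff.1 hbx))).mul_left
    (a.P_comm hp).inv_left).eq

theorem exists_noncomm : ∃ b ∈ QX c x, ∃ d ∈ QX c x, b * d ≠ d * b := by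
  by_contra hall
  push Not at hall
  haveI : Fact (Nat.Prime 11) := ⟨by norm_num⟩
  set X := QX c x with hX
  have hXE : X ≤ c.E := inf_le_left
  have hz := a.z_mem_Q
  have hcc := a.ok.card_cent X hXE hz
  rw [a.card_Q] at hcc
  have hne : ¬ c.E ≤ centralizer (X : Set G) := fun h => by
    rw [inf_eq_left.2 h, a.ok.cardE] at hcc
    norm_num at hcc
  obtain ⟨e, heE, heX⟩ := SetLike.not_le_iff_exists.1 hne
  let S := {b : c.E // ∀ q ∈ X, (b : G) * q * (b : G)⁻¹ = e * q * e⁻¹}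
  have hcardS : Nat.card S = Nat.card ↥(c.E ⊓ centralizer (X : Set G)) := Nat.card_congr
    { toFun := fun b => ⟨e⁻¹ * b.1, mem_inf.2 ⟨mul_mem (inv_mem heE) b.1.2,
        mem_centralizer_iff.2 fun q hq => by
          have h := b.2 q hq
          calc q * (e⁻¹ * b.1) = e⁻¹ * (e * q * e⁻¹) * b.1 := by group
            _ = e⁻¹ * b.1 * q := by rw [← h]; group⟩⟩
      invFun := fun b => ⟨⟨e * b, mul_mem heE (mem_inf.1 b.2).1⟩, fun q hq => by
        have h := mem_centralizer_iff.1 (mem_inf.1 b.2).2 q hq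
        show e * (b : G) * q * (e * b)⁻¹ = _
        rw [mul_assoc e (b : G) q, ← h]; group⟩
      left_inv := fun b => Subtype.ext (Subtype.ext (by simp))
      right_inv := fun b => Subtype.ext (by simp) }
  have hS : ∀ b : S, ∀ q ∈ X, x * b.1 * x⁻¹ * q * (x * b.1 * x⁻¹)⁻¹ = e * q * e⁻¹ := by
    intro b q hq
    have hxq : Commute x q := (mem_centralizer_singleton_iff.1 (mem_inf.1 hq).2).symm
    have hr : x * (e * q * e⁻¹) * x⁻¹ = e * q * e⁻¹ := by
      rcases a.ok.swap heE (hXE hq) with h | h <;> rw [h]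
      · rw [mul_inv_cancel_right, hxq.eq, mul_inv_cancel_right]
      · rw [show c.z * (q * e) * e⁻¹ = c.z * q by group, (a.z_comm.symm.mul_right hxq).eq,
          mul_inv_cancel_right]
    calc x * b.1 * x⁻¹ * q * (x * b.1 * x⁻¹)⁻¹ = x * (b.1 * (x⁻¹ * q * x) * (b.1 : G)⁻¹) * x⁻¹ := by group
      _ = x * (e * q * e⁻¹) * x⁻¹ := by rw [mul_assoc x⁻¹, ← hxq.eq, inv_mul_cancel_left, b.2 q hq]
      _ = _ := hr
  let φ : S → S := fun b => ⟨⟨x * b.1 * x⁻¹, a.ok.conjE a.mem_H b.1.2⟩, hS b⟩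
  have hit : ∀ n : ℕ, ∀ b : S, (((φ^[n] b).1 : c.E) : G) = x ^ n * b.1 * (x ^ n)⁻¹ := by
    intro n
    induction n with
    | zero => simp
    | succ n ih =>
      intro b
      rw [Function.iterate_succ_apply']
      show x * ((φ^[n] b).1 : c.E) * x⁻¹ = _
      rw [ih b, pow_succ']; group
  have h11 : φ^[11] = id :=
    funext fun b => Subtype.ext (Subtype.ext (by rw [hit, a.pow_eleven]; simp))
  have hm := H54.JFour.card_mod_fixed φ h11
  rw [hcardS] at hm
  have hcard : Nat.card ↥(c.E ⊓ centralizer (X : Set G)) = 2 ^ 11 := by omega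
  rw [hcard] at hm
  obtain ⟨b, hb⟩ : ∃ b : S, φ b = b := by
    by_contra hno
    haveI : IsEmpty {b : S // φ b = b} := ⟨fun b => hno ⟨b.1, b.2⟩⟩
    rw [Nat.card_of_isEmpty (α := {b : S // φ b = b})] at hm
    norm_num at hm
  have hbX : ((b.1 : c.E) : G) ∈ X := mem_inf.2 ⟨b.1.2, mem_centralizer_singleton_iff.2
    (mul_inv_eq_iff_eq_mul.1 (congrArg Subtype.val (congrArg Subtype.val hb))).symm⟩
  refine heX (mem_centralizer_iff.2 fun q hq => ?_)
  have h1 := b.2 q hq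
  rw [hall _ hbX q hq, mul_inv_cancel_right] at h1
  exact mul_inv_eq_iff_eq_mul.1 (h1.symm.trans rfl) |>.symm

theorem sq_eq_z {b : G} (hb : b ∈ QX c x) (h1 : b ≠ 1) (hz : b ≠ c.z) : b * b = c.z := by
  haveI : Fact (Nat.Prime 3) := ⟨Nat.prime_three⟩
  haveI : Fact (Nat.Prime 2) := ⟨Nat.prime_two⟩
  refine (a.ok.sq_mem (mem_inf.1 hb).1).resolve_left fun hbb => ?_
  obtain ⟨p, hp, hp1⟩ := a.ok.exists_p
  have hp3 : p ^ 3 = 1 := orderOf_dvd_iff_pow_eq_one.1 (a.ok.cardP ▸ orderOf_dvd_natCard c.P hp)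
  let T := {q : QX c x // (q : G) * q = 1 ∧ (q : G) ≠ 1 ∧ (q : G) ≠ c.z}
  have hflip : ∀ q : T, ((q.1 : G) * c.z) * (q.1 * c.z) = 1 ∧ (q.1 : G) * c.z ≠ 1 ∧ (q.1 : G) * c.z ≠ c.z := by
    intro q
    obtain ⟨hq2, hq1, hqz⟩ := q.2
    refine ⟨?_, fun e => hqz ?_, fun e => hq1 (mul_eq_right.1 e)⟩
    · rw [show (q.1 : G) * c.z * (q.1 * c.z) = q.1 * (c.z * q.1) * c.z by group,
        a.ok.z_comm (mem_inf.1 q.1.2).1, ← mul_assoc, hq2, one_mul, a.ok.z_sq]
    · rw [eq_inv_of_mul_eq_one_left e, a.ok.z_inv]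
  let τ : T → T := fun q => ⟨⟨q.1 * c.z, mul_mem q.1.2 a.z_mem_Q⟩, hflip q⟩
  have h2 : 2 ∣ Nat.card T := H54.JFour.prime_dvd_of_fpf τ (funext fun q => Subtype.ext (Subtype.ext (by
      show (q.1 : G) * c.z * c.z = q.1
      rw [mul_assoc, a.ok.z_sq, mul_one])))
    fun q e => a.ok.z_ne (mul_eq_left.1 (congrArg (fun r : T => (r.1 : G)) e))
  have hrot : ∀ q : T, (p * q.1 * p⁻¹) * (p * q.1 * p⁻¹) = 1 ∧ p * (q.1 : G) * p⁻¹ ≠ 1 ∧
      p * (q.1 : G) * p⁻¹ ≠ c.z := by
    intro q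
    obtain ⟨hq2, hq1, hqz⟩ := q.2
    have hpz : p * c.z * p⁻¹ = c.z := by rw [← c.mem_H.1 (a.ok.P_le hp), mul_inv_cancel_right]
    refine ⟨?_, fun e => hq1 (conj_eq_one_iff.1 e), fun e => hqz ?_⟩
    · rw [show p * (q.1 : G) * p⁻¹ * (p * q.1 * p⁻¹) = p * ((q.1 : G) * q.1) * p⁻¹ by group, hq2]; group
    · exact mul_left_cancel (mul_right_cancel (e.trans hpz.symm))
  let ρ : T → T := fun q => ⟨⟨p * q.1 * p⁻¹, a.P_conj_Q hp q.1.2⟩, hrot q⟩
  have h3 : 3 ∣ Nat.card T := H54.JFour.prime_dvd_of_fpf ρ (funext fun q => Subtype.ext (Subtype.ext (by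
      show p * (p * (p * (q.1 : G) * p⁻¹) * p⁻¹) * p⁻¹ = q.1
      rw [show p * (p * (p * (q.1 : G) * p⁻¹) * p⁻¹) * p⁻¹ = (p * p * p) * q.1 * (p * p * p)⁻¹ by group,
        ← pow_three', hp3, one_mul, inv_one, mul_one])))
    fun q e => (H54.JFour.fixP_vec a.ok hp hp1 (mem_inf.1 q.1.2).1
      (Or.inl (congrArg (fun r : T => (r.1 : G)) e))).elim q.2.2.1 q.2.2.2
  have hpos : 0 < Nat.card T := by
    haveI : Nonempty T := ⟨⟨⟨b, hb⟩, hbb, h1, hz⟩⟩
    exact Nat.card_pos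
  have hle : 6 ≤ Nat.card T :=
    Nat.le_of_dvd hpos (Nat.Coprime.mul_dvd_of_dvd_of_dvd (by decide : Nat.Coprime 2 3) h2 h3)
  let f : T ⊕ Bool → QX c x := Sum.elim (fun q => q.1) (fun i => if i then ⟨c.z, a.z_mem_Q⟩ else 1)
  have hf : Function.Injective f := by
    rintro (q | i) (r | j) e
    · exact congrArg Sum.inl (Subtype.ext e)
    · cases j
      · exact absurd (congrArg Subtype.val e) q.2.2.1
      · exact absurd (congrArg Subtype.val e) q.2.2.2
    · cases i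
      · exact absurd (congrArg Subtype.val e).symm r.2.2.1
      · exact absurd (congrArg Subtype.val e).symm r.2.2.2
    · cases i <;> cases j <;> first | rfl | exact absurd (congrArg Subtype.val e) a.ok.z_ne |
        exact absurd (congrArg Subtype.val e).symm a.ok.z_ne
  have hbij : Function.Surjective f := by
    haveI := Fintype.ofFinite T
    haveI := Fintype.ofFinite (QX c x)
    have hT : 8 ≤ Fintype.card (T ⊕ Bool) := by
      rw [Fintype.card_sum, Fintype.card_bool, ← Nat.card_eq_fintype_card]; omega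
    have hQ : Fintype.card (QX c x) = 8 := by rw [← Nat.card_eq_fintype_card]; exact a.card_Q
    have hle' := Fintype.card_le_of_injective f hf
    exact ((Fintype.bijective_iff_injective_and_card f).2 ⟨hf, by omega⟩).2
  have hsq : ∀ q : QX c x, q * q = 1 := by
    intro q
    obtain ⟨r, rfl⟩ := hbij q
    rcases r with r | i
    · exact Subtype.ext r.2.1
    · cases i
      · exact one_mul 1
      · exact Subtype.ext a.ok.z_sq
  obtain ⟨u, hu, w, hw, huw⟩ := a.exists_noncomm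
  refine huw ?_
  have e1 : u * u = 1 := congrArg Subtype.val (hsq ⟨u, hu⟩)
  have e2 : w * w = 1 := congrArg Subtype.val (hsq ⟨w, hw⟩)
  have e3 : (u * w) * (u * w) = 1 := congrArg Subtype.val (hsq ⟨u * w, mul_mem hu hw⟩)
  calc u * w = (u * w)⁻¹ := eq_inv_of_mul_eq_one_left e3
    _ = w * u := by rw [mul_inv_rev, inv_eq_of_mul_eq_one_left e1, inv_eq_of_mul_eq_one_left e2]

theorem unique_invol {b : G} (hb : b ∈ QX c x) (h2 : orderOf b = 2) : b = c.z := by
  by_contra hz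
  have h1 : b ≠ 1 := fun e => by rw [e, orderOf_one] at h2; omega
  have := a.sq_eq_z hb h1 hz
  rw [← pow_two, ← h2, pow_orderOf_eq_one] at this
  exact a.ok.z_ne this.symm

/-- The decomposition of the centraliser of `x` in `H`. -/
theorem cent_split {h : G} (hh : h ∈ c.H) (hx : Commute h x) :
    ∃ i : ℤ, ∃ q ∈ QX c x, ∃ p ∈ c.P, h = x ^ i * (q * p) := by
  have hpr : c.pr h ∈ centralizer ({c.pr x} : Set A) := mem_centralizer_singleton_iff.2 (by
    rw [← a.ok.pr_mul _ hh _ a.mem_H, ← a.ok.pr_mul _ a.mem_H _ hh, hx.eq])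
  rw [a.aut _ a.pr_ord] at hpr
  obtain ⟨i, hi⟩ := mem_zpowers_iff.1 hpr
  have hxi : x ^ i ∈ c.H := zpow_mem a.mem_H i
  have h1 : c.pr ((x ^ i)⁻¹ * h) = 1 := by
    rw [a.ok.pr_mul _ (inv_mem hxi) _ hh, a.ok.pr_inv hxi,
      show c.pr (x ^ i) = c.pr x ^ i from map_zpow a.ok.prHom ⟨x, a.mem_H⟩ i, hi, inv_mul_cancel]
  obtain ⟨q, hq, p, hp, he⟩ := exists_mul_of_mem_sup a.ok.P_norm
    ((a.ok.pr_ker _ (mul_mem (inv_mem hxi) hh)).1 h1)
  refine ⟨i, q, mem_inf.2 ⟨hq, mem_centralizer_singleton_iff.2 ?_⟩, p, hp, by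
    rw [← he, mul_inv_cancel_left]⟩
  have h2 : Commute ((x ^ i)⁻¹ * h) x :=
    ((Commute.refl x).zpow_left i).inv_left.mul_left hx
  have h3 := h2.mul_left (a.P_comm hp).inv_left
  rw [he, mul_inv_cancel_right] at h3
  exact h3.eq

theorem P_norm_Q : c.P ≤ normalizer (QX c x : Set G) := fun p hp => by
  refine mem_normalizer_iff.2 fun b => ⟨a.P_conj_Q hp, fun hb => ?_⟩
  have := a.P_conj_Q (inv_mem hp) hb
  rwa [inv_inv, show p⁻¹ * (p * b * p⁻¹) * p = b by group] at this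

theorem card_QP : Nat.card ↥(QX c x ⊔ c.P) = 24 := by
  have h := H31.FF.card_sup_mul_card_inf a.P_norm_Q
  rw [a.card_Q, a.ok.cardP, inf_eq_bot_of_coprime (by rw [a.card_Q, a.ok.cardP]; decide),
    Subgroup.card_bot, mul_one] at h
  exact h

theorem QP_le : QX c x ⊔ c.P ≤ c.H ⊓ centralizer ({x} : Set G) :=
  sup_le (inf_le_inf a.ok.le_H le_rfl) fun p hp =>
    mem_inf.2 ⟨a.ok.P_le hp, mem_centralizer_singleton_iff.2 (a.P_comm hp).eq⟩

theorem card_CH : Nat.card ↥(c.H ⊓ centralizer ({x} : Set G)) = 264 := by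
  set S := QX c x ⊔ c.P with hS
  have hnorm : zpowers x ≤ normalizer (S : Set G) := by
    refine zpowers_le.2 (mem_normalizer_iff.2 fun b => ?_)
    have hc : ∀ d ∈ S, Commute x d := fun d hd =>
      (mem_centralizer_singleton_iff.1 (mem_inf.1 (a.QP_le hd)).2).symm
    constructor
    · intro hb; rwa [(hc b hb).eq, mul_inv_cancel_right]
    · intro hb
      have := (hc _ hb).eq
      have e : b = x⁻¹ * (x * b * x⁻¹) * x := by group
      rw [e, mul_assoc, ← this, inv_mul_cancel_left]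
      exact hb
  have h := H31.FF.card_sup_mul_card_inf hnorm
  rw [a.card_QP, Nat.card_zpowers, a.ord,
    inf_eq_bot_of_coprime (by rw [a.card_QP, Nat.card_zpowers, a.ord]; decide), Subgroup.card_bot,
    mul_one] at h
  have e : c.H ⊓ centralizer ({x} : Set G) = S ⊔ zpowers x := by
    refine le_antisymm (fun h hh => ?_) (sup_le a.QP_le (zpowers_le.2
      (mem_inf.2 ⟨a.mem_H, mem_centralizer_singleton_iff.2 rfl⟩)))
    obtain ⟨hhH, hhx⟩ := mem_inf.1 hh
    obtain ⟨i, q, hq, p, hp, rfl⟩ := a.cent_split hhH (mem_centralizer_singleton_iff.1 hhx)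
    exact mul_mem (mem_sup_right (zpow_mem (mem_zpowers x) i))
      (mem_sup_left (mul_mem (mem_sup_left hq) (mem_sup_right hp)))
  rw [e, h]

/-- An element of odd order centralising `x`, `z` and `Q` is a power of `x`. -/
theorem mem_zpowers_of_cent {h : G} (hh : h ∈ c.H) (hx : Commute h x) (hodd : Odd (orderOf h))
    (hQ : ∀ b ∈ QX c x, Commute h b) : h ∈ zpowers x := by
  obtain ⟨i, q, hq, p, hp, rfl⟩ := a.cent_split hh hx
  obtain ⟨b, hb, d, hd, hbd⟩ := a.exists_noncomm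
  have hb1 : b ≠ 1 := fun e => hbd (by rw [e, one_mul, mul_one])
  have hbz : b ≠ c.z := fun e => hbd (by rw [e]; exact a.ok.z_comm (mem_inf.1 hd).1)
  have hp1 : p = 1 := by
    by_contra hp1
    have hxi : ∀ y ∈ QX c x, Commute (x ^ i) y := fun y hy =>
      ((show Commute x y from (mem_centralizer_singleton_iff.1 (mem_inf.1 hy).2).symm).zpow_left i)
    have hqp : Commute (q * p) b := by
      have := (hxi b hb).inv_left.mul_left (hQ b hb)
      rwa [inv_mul_cancel_left] at this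
    have h1 : p * b * p⁻¹ = q⁻¹ * b * q := by
      calc p * b * p⁻¹ = q⁻¹ * (q * p * b) * p⁻¹ := by group
        _ = q⁻¹ * (b * (q * p)) * p⁻¹ := by rw [hqp.eq]
        _ = q⁻¹ * b * q := by group
    have h2 : p * b * p⁻¹ = b ∨ p * b * p⁻¹ = b * c.z := by
      rw [h1, mul_assoc]
      rcases a.ok.swap (mem_inf.1 hb).1 (mem_inf.1 hq).1 with e | e <;> rw [e]
      · left; rw [inv_mul_cancel_left]
      · right
        rw [← mul_assoc c.z, a.ok.z_comm (mem_inf.1 hq).1, mul_assoc, inv_mul_cancel_left,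
          a.ok.z_comm (mem_inf.1 hb).1]
    exact (H54.JFour.fixP_vec a.ok hp hp1 (mem_inf.1 hb).1 h2).elim hb1 hbz
  subst hp1
  rw [mul_one] at *
  have hxq : Commute (x ^ i) q :=
    (show Commute x q from (mem_centralizer_singleton_iff.1 (mem_inf.1 hq).2).symm).zpow_left i
  have hd1 : q ^ (11 * orderOf (x ^ i * q)) = 1 := by
    have h1 : (x ^ i * q) ^ (11 * orderOf (x ^ i * q)) = 1 := by
      rw [mul_comm 11, pow_mul, pow_orderOf_eq_one, one_pow]
    have h2 : (x ^ i) ^ 11 = 1 := by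
      rw [← zpow_natCast, ← zpow_mul, mul_comm, zpow_mul, zpow_natCast, a.pow_eleven, one_zpow]
    rwa [hxq.mul_pow, pow_mul, h2, one_pow, one_mul] at h1
  have hd8 : q ^ 8 = 1 :=
    orderOf_dvd_iff_pow_eq_one.1 (a.card_Q ▸ orderOf_dvd_natCard (QX c x) hq)
  have hq1 : q = 1 := orderOf_eq_one_iff.1 (Nat.eq_one_of_dvd_one (by
    have h := Nat.dvd_gcd (orderOf_dvd_of_pow_eq_one hd1) (orderOf_dvd_of_pow_eq_one hd8)
    have hc : Nat.Coprime (11 * orderOf (x ^ i * q)) (2 ^ 3) :=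
      Nat.Coprime.pow_right 3 (Nat.coprime_two_right.2 ((show Odd 11 by decide).mul hodd))
    rw [show (8 : ℕ) = 2 ^ 3 by norm_num, hc.gcd_eq_one] at h
    exact h))
  rw [hq1, mul_one]
  exact zpow_mem (mem_zpowers x) i

end At

end Cfsg.Agent.H69.JFourSylow
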