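import Cfsg.Agent.H69.JFourSylow.GLTwo
import Cfsg.Agent.H69.JFourSylow.EnvMk

/-!
The structure of every Sylow 11-subgroup and of its normaliser.
-/

set_option autoImplicit false

namespace Cfsg.Agent.H69.JFourSylow

open Subgroup
open scoped Pointwise

universe u

variable {G : Type u} [Group G] [Finite G] [IsSimpleGroup G]

/-- The structure of a Sylow 11-subgroup and of its normaliser. -/
theorem eleven_structure (hG : ¬ IsMulCommutative G) {z : G} (hJ : Cfsg.IsOfJankoFourTypeAt z)
    (hiso : Cfsg.Spor.IsoJ4 G) (U : Sylow 11 G) :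
    Cfsg.IsExtraspecial 11 ↥(U : Subgroup G) ∧ Nat.card ↥(U : Subgroup G) = 11 ^ 3 ∧
    Monoid.exponent ↥(U : Subgroup G) = 11 ∧
    Nat.card ↥(normalizer ((U : Subgroup G) : Set G)) = 2 ^ 4 * 3 * 5 * 11 ^ 3 ∧
    ∃ K : Subgroup G, K ≤ normalizer ((U : Subgroup G) : Set G) ∧
      Nonempty (↥K ≃* GL (Fin 2) (ZMod 3)) := by
  haveI : Fact (Nat.Prime 11) := ⟨by norm_num⟩
  obtain ⟨c, x, U0, -, s⟩ := exists_setting hG hJ hiso
  have hU : Nat.card (U : Subgroup G) = 11 ^ 3 := card_sylow_eleven s.env.card U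
  obtain ⟨g, hg⟩ := MulAction.exists_smul_eq G U0 U
  have hmap : (U : Subgroup G) = (U0 : Subgroup G).map (MulAut.conj g).toMonoidHom := by
    rw [← hg, Sylow.coe_subgroup_smul]; rfl
  have hN : normalizer ((U : Subgroup G) : Set G) =
      (normalizer ((U0 : Subgroup G) : Set G)).map (MulAut.conj g).toMonoidHom := by
    rw [hmap]; exact (Subgroup.map_equiv_normalizer_eq _ (MulAut.conj g)).symm
  have hexp : ∀ y : (U : Subgroup G), y ^ 11 = 1 := by
    rintro ⟨y, hy⟩
    rw [hmap] at hy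
    obtain ⟨u, hu, rfl⟩ := hy
    exact Subtype.ext (by
      show ((MulAut.conj g).toMonoidHom u) ^ 11 = 1
      rw [← map_pow, s.exponent u hu, map_one])
  refine ⟨H49.extraspecial_of_card_cube hU (sylow_noncomm hiso U), hU, ?_, ?_, ?_⟩
  · rcases (Nat.dvd_prime (by norm_num : Nat.Prime 11)).1 (Monoid.exponent_dvd_of_forall_pow_eq_one hexp)
      with h | h
    · exfalso
      have hs : Subsingleton (U : Subgroup G) := Monoid.exp_eq_one_iff.1 h
      haveI := hs
      have := Finite.card_le_one_iff_subsingleton.2 hs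
      rw [hU] at this
      norm_num at this
    · exact h
  · rw [hN, Subgroup.card_map_of_injective (MulAut.conj g).injective]
    exact s.card_norm
  · obtain ⟨K, hK, ⟨e⟩⟩ := s.exists_gl_two
    refine ⟨K.map (MulAut.conj g).toMonoidHom, hN ▸ Subgroup.map_mono hK, ⟨?_⟩⟩
    exact ((Subgroup.equivMapOfInjective K _ (MulAut.conj g).injective).symm).trans e

end Cfsg.Agent.H69.JFourSylow
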